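import Groth.Agent.AmpleEmb.Ratio
import Groth.Agent.ProjBC.Basic
import Groth.Agent.ProjOverLib.Affine

/-!
# Base change of `O(1)` on projective space
-/

set_option autoImplicit false
set_option backward.isDefEq.respectTransparency false
set_option backward.isDefEq.respectTransparency.types false
set_option linter.style.haveILetI false

universe u

open CategoryTheory CategoryTheory.Limits AlgebraicGeometry TopologicalSpace Opposite MvPolynomial
open Groth.Agent.AmpleLib Groth.Agent.AmpleEmb Groth.Agent.ParaFLib Groth.Agent.DCohLib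

noncomputable section

namespace Groth.Agent.GenSeesawLib

variable (n : ℕ) (Z A : Type u) [CommRing Z] [CommRing A] [Algebra Z A]

/-- The map of homogeneous coordinate rings. -/
def coordMap : CohB1.polyGrading n Z →+*ᵍ CohB1.polyGrading n A :=
  { MvPolynomial.map (algebraMap Z A) with
    map_mem := fun h => MvPolynomial.IsHomogeneous.map h _ }

theorem coordMap_X (i : Fin (n + 1)) : coordMap n Z A (X i) = X i := MvPolynomial.map_X _ i

theorem irrelevant_le : HomogeneousIdeal.irrelevant (CohB1.polyGrading n A) ≤
    (HomogeneousIdeal.irrelevant (CohB1.polyGrading n Z)).map (coordMap n Z A) := by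
  show (HomogeneousIdeal.irrelevant (CohB1.polyGrading n A)).toIdeal ≤ _
  rw [ProjOverLib.irrelevant_eq_span, Ideal.span_le]
  rintro _ ⟨j, rfl⟩
  rw [SetLike.mem_coe, ← coordMap_X n Z A j]
  exact Ideal.mem_map_of_mem _ (HomogeneousIdeal.mem_irrelevant_of_mem _ one_pos (MvPolynomial.isHomogeneous_X _ j))

/-- The projection `P^n_A → P^n_Z`. -/
def bcMap : CohB1.ProjSpace n A ⟶ CohB1.ProjSpace n Z := Proj.map (coordMap n Z A) (irrelevant_le n Z A)

theorem isPullback_bcMap : IsPullback (bcMap n Z A) (CohB1.ProjSpace.toSpec n A) (CohB1.ProjSpace.toSpec n Z)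
    (Spec.map (CommRingCat.ofHom (algebraMap Z A))) := by
  letI : Algebra (MvPolynomial (Fin (n + 1)) Z) (MvPolynomial (Fin (n + 1)) A) := MvPolynomial.algebraMvPolynomial
  haveI : IsScalarTower Z (MvPolynomial (Fin (n + 1)) Z) (MvPolynomial (Fin (n + 1)) A) :=
    IsScalarTower.of_algebraMap_eq fun r => (MvPolynomial.map_C _ r).symm
  exact Groth.Agent.ProjBC.isPullback (CohB1.polyGrading n Z) (CohB1.polyGrading n A) (coordMap n Z A)
    (fun _ => rfl) (irrelevant_le n Z A)

theorem preimage_stdOpen (i : Fin (n + 1)) : bcMap n Z A ⁻¹ᵁ stdOpen n Z i = stdOpen n A i :=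
  congrArg (Proj.basicOpen (CohB1.polyGrading n A)) (coordMap_X n Z A i)

theorem app_coordRatio (i a : Fin (n + 1)) :
    (CohB1.ProjSpace n A).presheaf.map (homOfLE (preimage_stdOpen n Z A i).ge).op
      ((bcMap n Z A).app (stdOpen n Z i) (coordRatio n Z i a)) = coordRatio n A i a := by
  refine Subtype.ext (funext fun x => HomogeneousLocalization.val_injective _ ?_)
  refine (HomogeneousLocalization.val_localRingHom ..).trans ?_
  show Localization.localRingHom _ _ _ _ (HomogeneousLocalization.val (HomogeneousLocalization.mk _)) =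
    HomogeneousLocalization.val (HomogeneousLocalization.mk _)
  rw [HomogeneousLocalization.val_mk, HomogeneousLocalization.val_mk, Localization.localRingHom_mk]
  congr 1
  · exact coordMap_X n Z A a
  · exact Subtype.ext (coordMap_X n Z A i)

/-- `O(1)` pulls back to `O(1)`. -/
theorem nonempty_iso_pullback_twistOne :
    Nonempty (Twist.twistProjSpace n A 1 ≅
      (Scheme.Modules.pullback (bcMap n Z A)).obj (Twist.twistProjSpace n Z 1)) := by
  let F : RatioFamily (CohB1.ProjSpace n A) n :=
    { U := stdOpen n A
      t := coordRatio n A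
      t_self := fun i => by
        have h := gen_coordSec n A i _ le_rfl
        refine h.1 ?_
        simp only [ParaFLib.res_self, one_smul]
        exact coordRatio_smul n A i i
      t_open := basicOpen_coordRatio n A
      t_mul := fun i j a => by
        have hle : stdOpen n A i ⊓ stdOpen n A j ≤ stdOpen n A i := inf_le_left
        have hle' : stdOpen n A i ⊓ stdOpen n A j ≤ stdOpen n A j := inf_le_right
        refine ((gen_coordSec n A j).res hle' _ le_rfl).1 ?_
        have e1 := congrArg ((Twist.twistProjSpace n A 1).presheaf.map (homOfLE hle').op) (coordRatio_smul n A j a)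
        have e2 := congrArg ((Twist.twistProjSpace n A 1).presheaf.map (homOfLE hle').op) (coordRatio_smul n A j i)
        have e3 := congrArg ((Twist.twistProjSpace n A 1).presheaf.map (homOfLE hle).op) (coordRatio_smul n A i a)
        rw [Scheme.Modules.map_smul] at e1 e2 e3
        simp only [ParaFLib.res_self, resT, res_res] at e1 e2 e3 ⊢
        rw [e1, mul_comm, mul_smul, e2, e3]
      affine := isAffineOpen_stdOpen n A
      cover := iSup_stdOpen n A }
  refine nonempty_iso_of_ratios F (coordSec n A) (fun i => pullS (bcMap n Z A) (coordSec n Z i))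
    (gen_coordSec n A) (fun i => gen_resT_of_mem (isInvertible_pullback _ (isInvertible_twistOne n Z)) _
      ((genLocus_pullS _ (isInvertible_twistOne n Z) _).trans
        ((congrArg (bcMap n Z A ⁻¹ᵁ ·) (genLocus_coordSec n Z i)).trans (preimage_stdOpen n Z A i))))
    (coordRatio_smul n A) fun i a => smul_resT_eq _ _ (preimage_stdOpen n Z A i).ge _ _
      (app_coordRatio n Z A i a) fun x hx => coord_pullback_ratio (bcMap n Z A) i a x ((preimage_stdOpen n Z A i).ge hx)

end Groth.Agent.GenSeesawLib
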