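import Groth.Agent.GenSeesawLib.Stein
import Groth.Agent.AVLib.Base
import Groth.Agent.ProperFin.PushHH
import Groth.Agent.CurveLib.Components

/-!
# Fibrewise trivial invertible modules come from the base, over any base
-/

set_option autoImplicit false
set_option backward.isDefEq.respectTransparency false
set_option backward.isDefEq.respectTransparency.types false
set_option linter.style.haveILetI false

universe u

open CategoryTheory CategoryTheory.Limits AlgebraicGeometry TopologicalSpace Opposite
open Groth.Agent.PullbackMod Groth.Agent.ParaFLib Groth.Agent.AmpleLib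

noncomputable section

namespace Groth.Agent.GenSeesawLib

variable {X S : Scheme.{u}} (f : X ⟶ S)

theorem subsingleton_fiberH_of_iso {L : X.Modules} {y : S} {p : ℕ}
    (h : Subsingleton (Coh.HH (f.fiber y) (Coh.structureModule (f.fiber y)) p))
    (e : Coh.structureModule (f.fiber y) ≅ (Scheme.Modules.pullback (f.fiberι y)).obj L) :
    Subsingleton (CohIII.fiberH f L y p) :=
  CurveLib.subsingleton_HH_iso e p h

theorem exists_gen_nhd_of_triv [IsProper f] [LocallyOfFinitePresentation f] [Flat f] {L : X.Modules}
    (hL : PicF.IsInvertible L) (y : S)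
    (h1 : Subsingleton (Coh.HH (f.fiber y) (Coh.structureModule (f.fiber y)) 1))
    (hT : CubeLib.Triv ((Scheme.Modules.pullback (f.fiberι y)).obj L)) :
    ∃ U : S.Opens, y ∈ U ∧ ∃ s : Γ(L, f ⁻¹ᵁ U), Gen (f ⁻¹ᵁ U) s := by
  obtain ⟨e⟩ := CubeLib.triv_iff.1 hT
  exact exists_gen_nhd f hL y (subsingleton_fiberH_of_iso f h1 e.symm) hT

theorem exists_iso_pullback [IsProper f] [LocallyOfFinitePresentation f] [Flat f] {P : X.Modules}
    (hP : PicF.IsInvertible P)
    (hk : ∀ y, Function.Bijective (algebraMap (S.residueField y) Γ(f.fiber y, ⊤)))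
    (h1 : ∀ y, Subsingleton (Coh.HH (f.fiber y) (Coh.structureModule (f.fiber y)) 1))
    (h : ∀ y, CubeLib.Triv ((Scheme.Modules.pullback (f.fiberι y)).obj P)) :
    ∃ N : S.Modules, PicF.IsInvertible N ∧ Nonempty ((Scheme.Modules.pullback f).obj N ≅ P) :=
  AVLib.exists_iso_pullback_of_locally f hP (fun y => exists_gen_nhd_of_triv f hP y (h1 y) (h y)) fun y =>
    exists_nhd_bijective_app f y (hk y) (subsingleton_fiberH_of_iso f (h1 y) (pullO _).symm)

omit f in
/-- Vanishing cohomology of the structure module is invariant under isomorphism. -/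
theorem subsingleton_HH_structureModule_of_isIso {Y Z : Scheme.{u}} (ε : Z ⟶ Y) [IsIso ε] (p : ℕ)
    (h : Subsingleton (Coh.HH Z (Coh.structureModule Z) p)) :
    Subsingleton (Coh.HH Y (Coh.structureModule Y) p) := by
  haveI : Coh.IsQCoh (Coh.structureModule Z) := InvExt.isQCoh_of_isInvertible isInvertible_structureModule
  let φ : Coh.structureModule Y ⟶ (Scheme.Modules.pushforward ε).obj (Coh.structureModule Z) :=
    SheafOfModules.unitToPushforwardObjUnit ε.toRingCatSheafHom
  haveI : IsIso φ := ParaFLib.isIso_of_locally_app φ fun x =>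
    ⟨⊤, trivial, fun O _ => ConcreteCategory.bijective_of_isIso (ε.app O)⟩
  obtain ⟨e, -⟩ := ProperFin.exists_pushEquiv ε (M := Coh.structureModule Z)
    (fun _ hV m => CohBase.affine_vanishing _ (hV.preimage ε) m) p
  haveI := h
  exact CurveLib.subsingleton_HH_iso (asIso φ).symm p e.symm.toEquiv.subsingleton

end Groth.Agent.GenSeesawLib
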