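import Groth.Agent.GenSeesawLib.TwistBC
import Groth.Agent.GenSeesawLib.Glue
import Groth.Agent.AVLib.ProjConst
import Groth.Agent.ProjTwist.Zero
import Groth.Agent.ProjSmoothLib.Basic
import Groth.Agent.BCLib.DVR

/-!
# The fibres of `P^r_S → S`
-/

set_option autoImplicit false
set_option backward.isDefEq.respectTransparency false
set_option backward.isDefEq.respectTransparency.types false
set_option linter.style.haveILetI false

universe u

open CategoryTheory CategoryTheory.Limits AlgebraicGeometry TopologicalSpace Opposite MvPolynomial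
open Groth.Agent.PicLib Groth.Agent.PicProjLib Groth.Agent.AmpleLib Groth.Agent.ParaFLib

noncomputable section

namespace Groth.Agent.GenSeesawLib

/-- The coefficient map from the integers. -/
abbrev intAlg (A : Type u) [CommRing A] : Algebra (ULift.{u} ℤ) A :=
  ((Int.castRingHom A).comp (ULift.ringEquiv : ULift.{u} ℤ ≃+* ℤ).toRingHom).toAlgebra

variable (r : ℕ) (S : Scheme.{u})

theorem flat_toBase : Flat (CohB1.ProjSpaceOver.toBase r S) := by
  haveI := ProjSmoothLib.smooth_toSpec r (ULift.{u} ℤ)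
  haveI : Smooth (CohB1.ProjSpaceOver.toBase r S) := MorphismProperty.pullback_snd _ _ inferInstance
  infer_instance

theorem lfp_toBase : LocallyOfFinitePresentation (CohB1.ProjSpaceOver.toBase r S) := by
  haveI := ProjSmoothLib.smooth_toSpec r (ULift.{u} ℤ)
  haveI : Smooth (CohB1.ProjSpaceOver.toBase r S) := MorphismProperty.pullback_snd _ _ inferInstance
  infer_instance

theorem exists_fibreIso (y : S) :
    letI := intAlg (S.residueField y)
    ∃ e : CohB1.ProjSpace r (S.residueField y) ≅ (CohB1.ProjSpaceOver.toBase r S).fiber y,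
      e.hom ≫ (CohB1.ProjSpaceOver.toBase r S).fiberι y ≫
          pullback.fst (CohB1.ProjSpace.toSpec r (ULift.{u} ℤ)) (specULiftZIsTerminal.from S) =
        bcMap r (ULift.{u} ℤ) (S.residueField y) ∧
      e.hom ≫ (CohB1.ProjSpaceOver.toBase r S).fiberToSpecResidueField y =
        CohB1.ProjSpace.toSpec r (S.residueField y) := by
  letI := intAlg (S.residueField y)
  have h1 : IsPullback ((CohB1.ProjSpaceOver.toBase r S).fiberι y ≫
        pullback.fst (CohB1.ProjSpace.toSpec r (ULift.{u} ℤ)) (specULiftZIsTerminal.from S))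
      ((CohB1.ProjSpaceOver.toBase r S).fiberToSpecResidueField y) (CohB1.ProjSpace.toSpec r (ULift.{u} ℤ))
      (Spec.map (CommRingCat.ofHom (algebraMap (ULift.{u} ℤ) (S.residueField y)))) := by
    rw [show Spec.map (CommRingCat.ofHom (algebraMap (ULift.{u} ℤ) (S.residueField y))) =
      S.fromSpecResidueField y ≫ specULiftZIsTerminal.from S from specULiftZIsTerminal.hom_ext _ _]
    exact (IsPullback.of_hasPullback (CohB1.ProjSpaceOver.toBase r S) (S.fromSpecResidueField y)).paste_horiz
      (IsPullback.of_hasPullback (CohB1.ProjSpace.toSpec r (ULift.{u} ℤ)) (specULiftZIsTerminal.from S))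
  have h2 := isPullback_bcMap r (ULift.{u} ℤ) (S.residueField y)
  refine ⟨h2.isoIsPullback _ _ h1, ?_, ?_⟩
  · exact h2.isoIsPullback_hom_fst _ _ h1
  · exact h2.isoIsPullback_hom_snd _ _ h1

/-- The isomorphism of a fibre with projective space over the residue field. -/
def fibreIso (y : S) : CohB1.ProjSpace r (S.residueField y) ≅ (CohB1.ProjSpaceOver.toBase r S).fiber y :=
  (exists_fibreIso r S y).choose

/-- The inclusion of a fibre. -/
def fibreMap (y : S) : CohB1.ProjSpace r (S.residueField y) ⟶ CohB1.ProjSpaceOver r S :=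
  (fibreIso r S y).hom ≫ (CohB1.ProjSpaceOver.toBase r S).fiberι y

theorem fibreMap_fst (y : S) : letI := intAlg (S.residueField y)
    fibreMap r S y ≫ pullback.fst (CohB1.ProjSpace.toSpec r (ULift.{u} ℤ)) (specULiftZIsTerminal.from S) =
      bcMap r (ULift.{u} ℤ) (S.residueField y) := by
  rw [fibreMap, Category.assoc]
  exact (exists_fibreIso r S y).choose_spec.1

theorem fibreMap_toBase (y : S) : fibreMap r S y ≫ CohB1.ProjSpaceOver.toBase r S =
    CohB1.ProjSpace.toSpec r (S.residueField y) ≫ S.fromSpecResidueField y := by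
  rw [fibreMap, Category.assoc, Scheme.Hom.fiber_fac, ← Category.assoc]
  exact congrArg (· ≫ _) (exists_fibreIso r S y).choose_spec.2

theorem pull_fibreMap_pullback (y : S) (c : Pic S) :
    pull (fibreMap r S y) (pull (CohB1.ProjSpaceOver.toBase r S) c) = 1 := by
  rw [← pull_comp, fibreMap_toBase, pull_comp]
  exact (congrArg _ (eq_one_of_local (R := S.residueField y) (pull (S.fromSpecResidueField y) c))).trans (map_one _)

instance : IsDomain (ULift.{u} ℤ) :=
  (ULift.ringEquiv : ULift.{u} ℤ ≃+* ℤ).toMulEquiv.isDomain ℤ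

instance : UniqueFactorizationMonoid (ULift.{u} ℤ) :=
  (ULift.ringEquiv : ULift.{u} ℤ ≃+* ℤ).symm.toMulEquiv.uniqueFactorizationMonoid inferInstance

theorem isInvertible_twistOver (d : ℤ) : PicF.IsInvertible (Twist.twistOver r S d) :=
  isInvertible_pullback _ (isInvertible_twist d)

/-- `O(d)` restricts to `O(d)` on the fibres. -/
theorem pull_fibreMap_twist (y : S) (d : ℤ) :
    pull (fibreMap r S y) (cls (isInvertible_twistOver r S d)) =
      AVLib.twistHom r (S.residueField y) (Multiplicative.ofAdd d) := by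
  letI := intAlg (S.residueField y)
  let ψ : Multiplicative ℤ →* Pic (CohB1.ProjSpace r (S.residueField y)) :=
    (pull (bcMap r (ULift.{u} ℤ) (S.residueField y))).comp (MonoidHom.mk'
      (fun d => cls (isInvertible_twist (n := r) (R := ULift.{u} ℤ) d.toAdd)) fun _ _ => (cls_twist_mul _ _).symm)
  have hψ : ψ = AVLib.twistHom r (S.residueField y) := by
    refine MonoidHom.ext_mint ?_
    refine (pull_cls _ (isInvertible_twist _)).trans ((cls_eq_cls _ _).2 ?_)
    exact (nonempty_iso_pullback_twistOne r (ULift.{u} ℤ) (S.residueField y)).map Iso.symm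
  rw [← hψ]
  show _ = pull (bcMap r (ULift.{u} ℤ) (S.residueField y)) (cls (isInvertible_twist d))
  rw [← fibreMap_fst r S y, pull_comp]
  congr 1

theorem triv_fibre_iff (y : S) {L : (CohB1.ProjSpaceOver r S).Modules} (hL : PicF.IsInvertible L) :
    CubeLib.Triv ((Scheme.Modules.pullback ((CohB1.ProjSpaceOver.toBase r S).fiberι y)).obj L) ↔
      pull (fibreMap r S y) (cls hL) = 1 := by
  rw [CubeLib.triv_iff, ← cls_eq_one (isInvertible_pullback _ hL), fibreMap, pull_comp, pull_cls]
  constructor
  · intro h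
    rw [h, map_one]
  · intro h
    have h' := congrArg (pull (fibreIso r S y).inv) h
    rwa [← pull_comp, Iso.inv_hom_id, pull_id, map_one] at h'

set_option maxHeartbeats 3200000 in
theorem bijective_appTop_toSpec (k : Type u) [Field k] :
    Function.Bijective ((CohB1.ProjSpace.toSpec r k).appTop.hom.comp (Scheme.ΓSpecIso (CommRingCat.of k)).inv.hom) := by
  haveI : IsIntegral (CohB1.ProjSpace r k) := inferInstance
  haveI : Nonempty ↥(⊤ : (CohB1.ProjSpace r k).Opens) := ⟨⟨PicProjLib.gen r k, trivial⟩⟩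
  refine ⟨RingHom.injective _, fun t => ?_⟩
  let u : Γ(Coh.structureModule (CohB1.ProjSpace r k), ⊤) →+ Γ(Twist.twistProjSpace r k 0, ⊤) :=
    ((ProjCoh.unitToTwist (CohB1.polyGrading r k)).app ⊤).hom
  have hu : Function.Bijective u := ProjCoh.unitToTwist_bijective (𝒜 := CohB1.polyGrading r k) ⊤
  have hC : ∀ p : CohB1.polyGrading r k 0, ∃ c : k, c • (⟨1, SetLike.GradedOne.one_mem⟩ : CohB1.polyGrading r k 0) = p :=
    fun p => by
      obtain ⟨c, hc⟩ := (CompleteCurve.bijective_algebraMap_zero r k).2 p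
      exact ⟨c, by rw [← hc, Algebra.algebraMap_eq_smul_one]; rfl⟩
  let P0 := ProjTwist.polySec r k (d := 0) ⟨1, SetLike.GradedOne.one_mem⟩
  have key : ∀ s : Γ(Coh.structureModule (CohB1.ProjSpace r k), ⊤), ∃ c : k,
      u s = ProjCoh.projφ (CohB1.polyGrading r k) c • P0 := fun s => by
    obtain ⟨p, hp⟩ := (ProjTwist.polySec_bijective r k 0).2 (u s)
    obtain ⟨c, hc⟩ := hC p
    refine ⟨c, ?_⟩
    rw [← hp, ← hc, ProjTwist.polySec_smul]
  obtain ⟨c1, hc1⟩ := key (1 : Γ(CohB1.ProjSpace r k, ⊤))
  obtain ⟨c, hc⟩ := key t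
  have hc1' : c1 ≠ 0 := by
    rintro rfl
    rw [map_zero, zero_smul, ← map_zero u] at hc1
    exact one_ne_zero (α := Γ(CohB1.ProjSpace r k, ⊤)) (hu.1 hc1)
  refine ⟨c * c1⁻¹, hu.1 ?_⟩
  have h3 : u ((ProjCoh.projφ (CohB1.polyGrading r k) (c * c1⁻¹)) •
      (show Γ(Coh.structureModule (CohB1.ProjSpace r k), ⊤) from (1 : Γ(CohB1.ProjSpace r k, ⊤)))) = u t := by
    refine (Scheme.Modules.Hom.app_smul _ _ _).trans ?_
    show ProjCoh.projφ (CohB1.polyGrading r k) (c * c1⁻¹) • u _ = u t
    rw [hc1, hc, smul_smul, ← map_mul, inv_mul_cancel_right₀ hc1']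
  refine Eq.trans ?_ h3
  congr 1
  show _ = (show Γ(CohB1.ProjSpace r k, ⊤) from ProjCoh.projφ (CohB1.polyGrading r k) (c * c1⁻¹)) * 1
  exact (mul_one _).symm

theorem bijective_fibre (y : S) :
    Function.Bijective (algebraMap (S.residueField y) Γ((CohB1.ProjSpaceOver.toBase r S).fiber y, ⊤)) := by
  have h := bijective_appTop_toSpec r (S.residueField y)
  rw [show CohB1.ProjSpace.toSpec r (S.residueField y) = (fibreIso r S y).hom ≫
    (CohB1.ProjSpaceOver.toBase r S).fiberToSpecResidueField y from (exists_fibreIso r S y).choose_spec.2.symm,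
    Scheme.Hom.comp_appTop] at h
  exact (Function.Bijective.of_comp_iff' (ConcreteCategory.bijective_of_isIso (fibreIso r S y).hom.appTop) _).1 h

theorem subsingleton_H1_fibre (y : S) :
    Subsingleton (Coh.HH ((CohB1.ProjSpaceOver.toBase r S).fiber y)
      (Coh.structureModule ((CohB1.ProjSpaceOver.toBase r S).fiber y)) 1) := by
  refine subsingleton_HH_structureModule_of_isIso (fibreIso r S y).hom 1 ?_
  haveI : IsIso (ProjCoh.unitToTwist (CohB1.polyGrading r (S.residueField y))) :=
    ParaFLib.isIso_of_locally_app _ fun x => ⟨⊤, trivial, fun O _ => ProjCoh.unitToTwist_bijective O⟩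
  refine CurveLib.subsingleton_HH_iso (asIso (ProjCoh.unitToTwist (CohB1.polyGrading r (S.residueField y)))).symm 1 ?_
  exact ProjTwist.subsingleton_HH r (S.residueField y) 0 1 (by omega) (by omega)

end Groth.Agent.GenSeesawLib
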