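import Groth.Agent.GenSeesawLib.PushTriv
import Groth.Agent.GenBCLib.RankStratum

/-!
# The subscheme over which an invertible module comes from the base
-/

set_option autoImplicit false
set_option backward.isDefEq.respectTransparency false
set_option backward.isDefEq.respectTransparency.types false
set_option linter.style.haveILetI false
set_option maxHeartbeats 1600000

universe u

open CategoryTheory CategoryTheory.Limits AlgebraicGeometry TopologicalSpace Opposite
open Groth.Agent.PullbackMod Groth.Agent.ParaFLib Groth.Agent.AmpleLib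

noncomputable section

namespace Groth.Agent.GenSeesawLib

variable {X S : Scheme.{u}} (f : X ⟶ S)

/-- Triviality on a fibre passes to the fibres over it after base change. -/
theorem triv_fibre_of_base {T XT : Scheme.{u}} {u : T ⟶ S} {π : XT ⟶ T} {g : XT ⟶ X} (sq : IsPullback g π f u)
    {L : X.Modules} (t : T)
    (h : CubeLib.Triv ((Scheme.Modules.pullback (f.fiberι (u t))).obj L)) :
    CubeLib.Triv ((Scheme.Modules.pullback (π.fiberι t)).obj ((Scheme.Modules.pullback g).obj L)) := by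
  let m : π.fiber t ⟶ f.fiber (u t) := pullback.lift (π.fiberι t ≫ g)
    (π.fiberToSpecResidueField t ≫ Spec.map (u.residueFieldMap t)) (by
      rw [Category.assoc, sq.w, ← Category.assoc, π.fiber_fac t, Category.assoc, Category.assoc,
        Scheme.Hom.SpecMap_residueFieldMap_fromSpecResidueField])
  have hm : m ≫ f.fiberι (u t) = π.fiberι t ≫ g := pullback.lift_fst _ _ _
  obtain ⟨i⟩ := CubeLib.triv_iff.1 h
  exact CubeLib.triv_iff.2 ⟨(Scheme.Modules.pullbackComp (π.fiberι t) g).app L ≪≫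
    ((Scheme.Modules.pullbackCongr hm).app L).symm ≪≫ ((Scheme.Modules.pullbackComp m (f.fiberι (u t))).app L).symm ≪≫
    (Scheme.Modules.pullback m).mapIso i ≪≫ pullO m⟩

variable [IsProper f] [LocallyOfFinitePresentation f] [Flat f]

theorem ptGood_of_gen (hb : ∀ y : S, Function.Bijective (algebraMap (S.residueField y) Γ(f.fiber y, ⊤)))
    {P : X.Modules} (hP : PicF.IsInvertible P) {U : S.Opens} {s : Γ(P, f ⁻¹ᵁ U)} (hs : Gen (f ⁻¹ᵁ U) s) {y : S}
    (hy : y ∈ U) : GenBCLib.PtGood f P 1 y := by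
  obtain ⟨hq, hfp⟩ := isQCoh_and_isFP_of_isFinLocFree P (CurveLib.isFinLocFree_of_isInvertible hP)
  haveI := hq
  obtain ⟨V, D, hyV⟩ :=
    GenBCLib.exists_dat_at hfp (TildePerf.isFlatOver_of_isFinLocFree f (CurveLib.isFinLocFree_of_isInvertible hP)) y
  obtain ⟨a, ha, hg⟩ := D.exists_good hyV ((D.epi_bc0_iff_surjAt hyV).1 (epi_bc0_of_gen f hP hs hy (hb y)))
  refine ⟨⟨V, D, a, ha, hg⟩, ?_⟩
  rw [← CubeLib.fiberRank_eq_one_of_triv f y (hb y) (triv_fibre_of_gen f hP hs hy)]
  exact D.freeAt_of_good ha hg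

/-- The subscheme over which an invertible module comes from the base. -/
theorem exists_seesaw_subscheme [GeometricallyIntegral f] {L : X.Modules} (hL : PicF.IsInvertible L) :
    ∃ (Z : Scheme.{u}) (ι : Z ⟶ S), IsClosedImmersion ι ∧ LocallyOfFinitePresentation ι ∧
      ∀ (T : Scheme.{u}) (u : T ⟶ S), (∃ u' : T ⟶ Z, u' ≫ ι = u) ↔
        ∃ M : T.Modules, PicF.IsInvertible M ∧
          Nonempty ((Scheme.Modules.pullback (pullback.snd f u)).obj M ≅
            (Scheme.Modules.pullback (pullback.fst f u)).obj L) := by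
  obtain ⟨N, hN, ⟨e⟩⟩ := AmpleEmb.exists_isInverseOf hL
  obtain ⟨hqL, hfpL⟩ := isQCoh_and_isFP_of_isFinLocFree L (CurveLib.isFinLocFree_of_isInvertible hL)
  obtain ⟨hqN, hfpN⟩ := isQCoh_and_isFP_of_isFinLocFree N (CurveLib.isFinLocFree_of_isInvertible hN)
  haveI := hqL
  haveI := hqN
  have hflL := TildePerf.isFlatOver_of_isFinLocFree f (CurveLib.isFinLocFree_of_isInvertible hL)
  have hflN := TildePerf.isFlatOver_of_isFinLocFree f (CurveLib.isFinLocFree_of_isInvertible hN)
  obtain ⟨Z₁, ι₁, h₁, h₁', -, hu₁⟩ := GenBCLib.exists_stratum (f := f) 1 hfpL hflL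
  obtain ⟨Z₂, ι₂, h₂, h₂', -, hu₂⟩ := GenBCLib.exists_stratum (f := f) 1 hfpN hflN
  haveI := h₁; haveI := h₂; haveI := h₁'; haveI := h₂'
  let ι : pullback ι₁ ι₂ ⟶ S := pullback.fst ι₁ ι₂ ≫ ι₁
  haveI : IsImmersion ι := inferInstanceAs (IsImmersion (pullback.fst ι₁ ι₂ ≫ ι₁))
  refine ⟨_, ι, ?_, inferInstanceAs (LocallyOfFinitePresentation (pullback.fst ι₁ ι₂ ≫ ι₁)), fun T u => ?_⟩
  · refine IsClosedImmersion.of_isPreimmersion ι ?_
    have hr : Set.range ι = {y : S | CubeLib.Triv ((Scheme.Modules.pullback (f.fiberι y)).obj L)} := by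
      ext y
      constructor
      · rintro ⟨z, rfl⟩
        have r1 : ι z ∈ Set.range ι₁ := ⟨pullback.fst ι₁ ι₂ z, rfl⟩
        have r2 : ι z ∈ Set.range ι₂ := ⟨pullback.snd ι₁ ι₂ z, by
          rw [← Scheme.Hom.comp_apply, ← pullback.condition]⟩
        rw [GenBCLib.range_eq hfpL hflL 1 ι₁ hu₁] at r1
        rw [GenBCLib.range_eq hfpN hflN 1 ι₂ hu₂] at r2
        exact CubeLib.triv_fiber_of_fiberRank_pos f hL hN e _ (Nat.one_pos.trans_eq r1.symm)
          (Nat.one_pos.trans_eq r2.symm)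
      · intro hy
        obtain ⟨i⟩ := CubeLib.triv_iff.1 hy
        have hNy : CubeLib.Triv ((Scheme.Modules.pullback (f.fiberι y)).obj N) :=
          CubeLib.triv_iff.2 ⟨(unitL _).symm ≪≫ AmpleLib.tIso i.symm (Iso.refl _) ≪≫
            (pullTensor (f.fiberι y) L N).symm ≪≫ (Scheme.Modules.pullback (f.fiberι y)).mapIso e ≪≫ pullO _⟩
        have r1 : y ∈ Set.range ι₁ := by
          rw [GenBCLib.range_eq hfpL hflL 1 ι₁ hu₁]
          exact CubeLib.fiberRank_eq_one_of_triv f y (AVLib.bijective_fiber f y) hy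
        have r2 : y ∈ Set.range ι₂ := by
          rw [GenBCLib.range_eq hfpN hflN 1 ι₂ hu₂]
          exact CubeLib.fiberRank_eq_one_of_triv f y (AVLib.bijective_fiber f y) hNy
        obtain ⟨a, ha⟩ := r1
        obtain ⟨b, hb⟩ := r2
        obtain ⟨z, hz, -⟩ := Scheme.Pullback.exists_preimage_pullback (f := ι₁) (g := ι₂) a b (ha.trans hb.symm)
        exact ⟨z, by rw [Scheme.Hom.comp_apply, hz, ha]⟩
    rw [hr]
    exact isClosed_triv f hL
  · let π := pullback.snd f u
    let g := pullback.fst f u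
    have sq : IsPullback g π f u := IsPullback.of_hasPullback f u
    haveI : IsProper π := MorphismProperty.pullback_snd _ _ inferInstance
    haveI : Flat π := MorphismProperty.pullback_snd _ _ inferInstance
    haveI : LocallyOfFinitePresentation π := MorphismProperty.pullback_snd _ _ inferInstance
    haveI : GeometricallyIntegral π := MorphismProperty.pullback_snd _ _ inferInstance
    have hgL := AmpleLib.isInvertible_pullback g hL
    have hgN := AmpleLib.isInvertible_pullback g hN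
    let e' := (pullTensor g L N).symm ≪≫ (Scheme.Modules.pullback g).mapIso e ≪≫ pullO g
    constructor
    · rintro ⟨u', hu'⟩
      have a1 : GenBCLib.AllGood f L 1 u :=
        (hu₁ T u).1 ⟨u' ≫ pullback.fst ι₁ ι₂, by rw [Category.assoc]; exact hu'⟩
      have a2 : GenBCLib.AllGood f N 1 u :=
        (hu₂ T u).1 ⟨u' ≫ pullback.snd ι₁ ι₂, by rw [Category.assoc, ← pullback.condition]; exact hu'⟩
      refine (iso_pullback_iff π hgL hgN e').2 fun t => ?_
      have r1 : u t ∈ Set.range ι₁ := ⟨pullback.fst ι₁ ι₂ (u' t), by rw [← hu']; rfl⟩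
      have r2 : u t ∈ Set.range ι₂ := ⟨pullback.snd ι₁ ι₂ (u' t), by
        rw [← hu', Scheme.Hom.comp_apply, ← Scheme.Hom.comp_apply (pullback.snd ι₁ ι₂), ← pullback.condition]⟩
      rw [GenBCLib.range_eq hfpL hflL 1 ι₁ hu₁] at r1
      rw [GenBCLib.range_eq hfpN hflN 1 ι₂ hu₂] at r2
      have hT := triv_fibre_of_base f sq t (CubeLib.triv_fiber_of_fiberRank_pos f hL hN e _
        (Nat.one_pos.trans_eq r1.symm) (Nat.one_pos.trans_eq r2.symm))
      obtain ⟨i⟩ := CubeLib.triv_iff.1 hT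
      have hTN : CubeLib.Triv ((Scheme.Modules.pullback (π.fiberι t)).obj ((Scheme.Modules.pullback g).obj N)) :=
        CubeLib.triv_iff.2 ⟨(unitL _).symm ≪≫ AmpleLib.tIso i.symm (Iso.refl _) ≪≫
          (pullTensor (π.fiberι t) _ _).symm ≪≫ (Scheme.Modules.pullback (π.fiberι t)).mapIso e' ≪≫ pullO _⟩
      haveI := ((GenBCLib.allGood_iff_goal hfpL hflL 1 sq).1 a1).2 _ _ _
        (IsPullback.of_hasPullback π (T.fromSpecResidueField t))
      exact ⟨nontrivial_fiberH_of_triv π t (AVLib.bijective_fiber π t) hT,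
        nontrivial_fiberH_of_triv π t (AVLib.bijective_fiber π t) hTN, inferInstanceAs (Epi (CohBC.bc0 π
          (T.fromSpecResidueField t) (pullback.snd π (T.fromSpecResidueField t))
          (pullback.fst π (T.fromSpecResidueField t)) pullback.condition ((Scheme.Modules.pullback g).obj L)))⟩
    · rintro ⟨M, hM, ⟨j⟩⟩
      obtain ⟨M', hM', ⟨em⟩⟩ := AmpleEmb.exists_isInverseOf hM
      let j' : (Scheme.Modules.pullback π).obj M' ≅ (Scheme.Modules.pullback g).obj N :=
        (unitL _).symm ≪≫ AmpleLib.tIso ((AmpleLib.comm _ _) ≪≫ e').symm (Iso.refl _) ≪≫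
          AmpleLib.assoc _ _ _ ≪≫ AmpleLib.tIso (Iso.refl _) (AmpleLib.tIso j.symm (Iso.refl _) ≪≫
            (pullTensor π M M').symm ≪≫ (Scheme.Modules.pullback π).mapIso em ≪≫ pullO π) ≪≫
          AmpleLib.comm _ _ ≪≫ unitL _
      have main : ∀ {G : X.Modules} (hG : PicF.IsInvertible G) {M₀ : T.Modules} (hM₀ : PicF.IsInvertible M₀)
          (i : (Scheme.Modules.pullback π).obj M₀ ≅ (Scheme.Modules.pullback g).obj G),
          GenBCLib.AllGood f G 1 u := by
        intro G hG M₀ hM₀ i XT fT gT sq' t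
        obtain ⟨hqG, hfpG⟩ := isQCoh_and_isFP_of_isFinLocFree G (CurveLib.isFinLocFree_of_isInvertible hG)
        haveI := hqG
        obtain ⟨V, D, hV⟩ := GenBCLib.exists_dat_at hfpG
          (TildePerf.isFlatOver_of_isFinLocFree f (CurveLib.isFinLocFree_of_isInvertible hG)) (u t)
        obtain ⟨U, htU, s, hs⟩ := exists_gen_nhd_of_iso_pullback π hM₀ i t
        exact (D.ptGood_iff_cond 1 sq' t hV).2 ((D.ptGood_iff_cond 1 sq t hV).1
          (ptGood_of_gen π (AVLib.bijective_fiber π) (AmpleLib.isInvertible_pullback g hG) hs htU))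
      obtain ⟨u₁, hu₁'⟩ := (hu₁ T u).2 (main hL hM j)
      obtain ⟨u₂, hu₂'⟩ := (hu₂ T u).2 (main hN hM' j')
      exact ⟨pullback.lift u₁ u₂ (hu₁'.trans hu₂'.symm), by rw [pullback.lift_fst_assoc, hu₁']⟩

end Groth.Agent.GenSeesawLib
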