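import Groth.Agent.GenSeesawLib.ProjFibre
import Groth.Agent.ProjMap.Basic

/-!
# The Picard group of `P^r_S` for connected `S`
-/

set_option autoImplicit false
set_option backward.isDefEq.respectTransparency false
set_option backward.isDefEq.respectTransparency.types false
set_option linter.style.haveILetI false

universe u

open CategoryTheory CategoryTheory.Limits AlgebraicGeometry TopologicalSpace Opposite
open Groth.Agent.PicLib Groth.Agent.AmpleLib Groth.Agent.ParaFLib

noncomputable section

namespace Groth.Agent.GenSeesawLib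

variable (r : ℕ) (S : Scheme.{u})

theorem exists_section : ∃ s : S ⟶ CohB1.ProjSpaceOver r S, s ≫ CohB1.ProjSpaceOver.toBase r S = 𝟙 S := by
  let v : Fin (r + 1) → ULift.{u} ℤ := fun i => if i = 0 then 1 else 0
  have hv : IsUnit (v 0) := by simp [v]
  let p : Spec (CommRingCat.of (ULift.{u} ℤ)) ⟶ CohB1.ProjSpace r (ULift.{u} ℤ) := ProjMap.point v 0 hv
  exact ⟨pullback.lift (specULiftZIsTerminal.from S ≫ p) (𝟙 S) (specULiftZIsTerminal.hom_ext _ _),
    pullback.lift_snd _ _ _⟩

theorem twist_degree_unique [Nonempty S] (hr : r ≠ 0) {L L' : S.Modules} (hL : PicF.IsInvertible L)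
    (hL' : PicF.IsInvertible L') {d d' : ℤ}
    (h : Nonempty (CohB1.tensorMod ((Scheme.Modules.pullback (CohB1.ProjSpaceOver.toBase r S)).obj L) (Twist.twistOver r S d) ≅
      CohB1.tensorMod ((Scheme.Modules.pullback (CohB1.ProjSpaceOver.toBase r S)).obj L') (Twist.twistOver r S d'))) :
    d = d' ∧ Nonempty (L ≅ L') := by
  have e := (cls_eq_cls (isInvertible_tensor (isInvertible_pullback _ hL) (isInvertible_twistOver r S d))
    (isInvertible_tensor (isInvertible_pullback _ hL') (isInvertible_twistOver r S d'))).2 h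
  rw [cls_tensor (isInvertible_pullback _ hL) (isInvertible_twistOver r S d),
    cls_tensor (isInvertible_pullback _ hL') (isInvertible_twistOver r S d'), ← pull_cls _ hL, ← pull_cls _ hL'] at e
  obtain ⟨y⟩ := ‹Nonempty S›
  have e' := congrArg (pull (fibreMap r S y)) e
  rw [map_mul, map_mul, pull_fibreMap_pullback, pull_fibreMap_pullback, one_mul, one_mul, pull_fibreMap_twist,
    pull_fibreMap_twist] at e'
  have hd : d = d' := by
    have h1 : AVLib.twistHom r (S.residueField y) (Multiplicative.ofAdd d / Multiplicative.ofAdd d') = 1 := by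
      rw [map_div, e', div_self']
    have h2 := AVLib.twistHom_eq_one hr h1
    simp only [toAdd_div, toAdd_ofAdd] at h2
    omega
  subst hd
  refine ⟨rfl, ?_⟩
  obtain ⟨s, hs⟩ := exists_section r S
  have e2 := congrArg (pull s) (mul_right_cancel e)
  rw [← pull_comp, ← pull_comp, hs, pull_id, pull_id] at e2
  exact (cls_eq_cls hL hL').1 e2

theorem exists_iso_twist_of_connected [ConnectedSpace S] {N : (CohB1.ProjSpaceOver r S).Modules}
    (hN : PicF.IsInvertible N) :
    ∃ (L : S.Modules) (d : ℤ), PicF.IsInvertible L ∧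
      Nonempty (N ≅ CohB1.tensorMod ((Scheme.Modules.pullback (CohB1.ProjSpaceOver.toBase r S)).obj L) (Twist.twistOver r S d)) := by
  let π := CohB1.ProjSpaceOver.toBase r S
  haveI : IsProper π := BCLib.isProper_toBase r S
  haveI : Flat π := flat_toBase r S
  haveI : LocallyOfFinitePresentation π := lfp_toBase r S
  let M : ℤ → (CohB1.ProjSpaceOver r S).Modules := fun d => CohB1.tensorMod N (Twist.twistOver r S (-d))
  have hM : ∀ d, PicF.IsInvertible (M d) := fun d => isInvertible_tensor hN (isInvertible_twistOver r S _)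
  -- fibrewise degree, locally constant
  have hpull : ∀ y d, pull (fibreMap r S y) (cls (hM d)) =
      pull (fibreMap r S y) (cls hN) / AVLib.twistHom r (S.residueField y) (Multiplicative.ofAdd d) := fun y d => by
    rw [cls_tensor hN (isInvertible_twistOver r S (-d)), map_mul, pull_fibreMap_twist, ofAdd_neg, map_inv, div_eq_mul_inv]
  choose δ hδ using fun y => AVLib.twistHom_surjective r (pull (fibreMap r S y) (cls hN))
  obtain ⟨d, hd⟩ : ∃ d : ℤ, ∀ y, CubeLib.Triv ((Scheme.Modules.pullback (π.fiberι y)).obj (M d)) := by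
    rcases eq_or_ne r 0 with rfl | hr
    · exact ⟨0, fun y => (triv_fibre_iff 0 S y (hM 0)).2 (AVLib.pic_proj_zero _)⟩
    have hT : ∀ y, CubeLib.Triv ((Scheme.Modules.pullback (π.fiberι y)).obj (M (δ y).toAdd)) := fun y =>
      (triv_fibre_iff r S y (hM _)).2 (by rw [hpull, ofAdd_toAdd, hδ, div_self'])
    have hlc : IsLocallyConstant fun y => (δ y).toAdd := by
      refine (IsLocallyConstant.iff_exists_open _).2 fun y => ?_
      obtain ⟨U, hyU, s, hs⟩ := exists_gen_nhd_of_triv π (hM _) y (subsingleton_H1_fibre r S y) (hT y)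
      refine ⟨U, U.2, hyU, fun z hz => ?_⟩
      have hle : (⊤ : (π.fiber z).Opens) ≤ π.fiberι z ⁻¹ᵁ (π ⁻¹ᵁ U) := fun w _ => by
        show π (π.fiberι z w) ∈ U
        have hw : π.fiberι z w ∈ Set.range (π.fiberι z) := ⟨w, rfl⟩
        rw [π.range_fiberι z] at hw
        rw [show π (π.fiberι z w) = z from hw]
        exact hz
      have h1 := (triv_fibre_iff r S z (hM (δ y).toAdd)).1
        ⟨_, (AmpleEmb.gen_pullMap (π.fiberι z) (hM _) hs).res hle⟩
      rw [hpull, ofAdd_toAdd, ← hδ z, ← map_div] at h1
      have h2 := AVLib.twistHom_eq_one hr h1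
      rw [toAdd_div, sub_eq_zero] at h2
      exact h2
    obtain ⟨y₀⟩ : Nonempty S := inferInstance
    exact ⟨(δ y₀).toAdd, fun y => (show (δ y).toAdd = (δ y₀).toAdd from hlc.apply_eq_of_preconnectedSpace y y₀) ▸ hT y⟩
  obtain ⟨L, hL, ⟨e⟩⟩ := exists_iso_pullback π (hM d) (bijective_fibre r S) (subsingleton_H1_fibre r S) hd
  refine ⟨L, d, hL, (cls_eq_cls hN (isInvertible_tensor (isInvertible_pullback _ hL) (isInvertible_twistOver r S d))).1 ?_⟩
  rw [cls_tensor (isInvertible_pullback _ hL) (isInvertible_twistOver r S d),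
    (cls_eq_cls (isInvertible_pullback π hL) (hM d)).2 ⟨e⟩, cls_tensor hN (isInvertible_twistOver r S (-d)), mul_assoc]
  have hz : cls (isInvertible_twistOver r S (-d)) * cls (isInvertible_twistOver r S d) = 1 := by
    show cls (isInvertible_pullback _ (PicProjLib.isInvertible_twist (-d))) * cls (isInvertible_pullback _ (PicProjLib.isInvertible_twist d)) = 1
    rw [← pull_cls _ (PicProjLib.isInvertible_twist (-d)), ← pull_cls _ (PicProjLib.isInvertible_twist d), ← map_mul,
      PicProjLib.cls_twist_mul]
    simp only [neg_add_cancel]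
    rw [PicProjLib.cls_twist_zero, map_one]
  rw [hz, mul_one]

end Groth.Agent.GenSeesawLib
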