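import Groth.Agent.GenSeesawLib.Near
import Groth.Agent.BCLib.SteinNbhd
import Groth.Agent.EtAlgEasy.PrinPartO
import Mathlib.LinearAlgebra.Matrix.Charpoly.LinearMap

/-!
# `O_S = f_* O_X` near a fibre with constant functions and vanishing `H¹`, over any base
-/

set_option autoImplicit false
set_option backward.isDefEq.respectTransparency false
set_option backward.isDefEq.respectTransparency.types false
set_option backward.defeqAttrib.useBackward true
set_option linter.style.haveILetI false
set_option maxHeartbeats 1600000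

universe u

open CategoryTheory CategoryTheory.Limits AlgebraicGeometry TopologicalSpace Opposite TensorProduct
open Groth.Agent.PullbackMod Groth.Agent.ParaFLib Groth.Agent.AmpleLib

noncomputable section

namespace Groth.Agent.GenSeesawLib

theorem exists_rank_one {A P K : Type u} [CommRing A] [AddCommGroup P] [Module A P] [Module.Finite A P]
    [Module.Projective A P] [CommRing K] [IsDomain K] [Algebra A K] (one : P)
    (h : Function.Bijective fun r : K => r • ((1 : K) ⊗ₜ[A] one)) :
    ∃ g : A, algebraMap A K g ≠ 0 ∧ (∀ a : A, a • one = 0 → g * a = 0) ∧ ∀ x : P, ∃ a : A, g • x = a • one := by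
  classical
  obtain ⟨n, f, s, -, -, hfs⟩ := Module.Finite.exists_comp_eq_id_of_projective A P
  have hsum : ∀ x : P, x = ∑ j, s x j • f (Pi.single j 1) := fun x => by
    conv_lhs => rw [← LinearMap.id_apply (R := A) x, ← hfs, LinearMap.comp_apply,
      pi_eq_sum_univ' (s x)]
    simp [map_sum, map_smul]
  have hne : (1 : K) ⊗ₜ[A] one ≠ 0 := fun h0 => zero_ne_one (α := K) (h.1 (by simp [h0]))
  obtain ⟨i, hi⟩ : ∃ i, algebraMap A K (s one i) ≠ 0 := by
    by_contra hall
    push Not at hall
    refine hne ?_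
    rw [hsum one, tmul_sum]
    exact Finset.sum_eq_zero fun j _ => by
      rw [← smul_tmul, Algebra.smul_def, hall j, zero_mul, zero_tmul]
  let l : P →ₗ[A] A := LinearMap.proj i ∘ₗ s
  let u := l one
  let π : P →ₗ[A] P := u • LinearMap.id - l.smulRight one
  have hπ : ∀ x, π x = u • x - l x • one := fun x => rfl
  have hone : π one = 0 := by rw [hπ, sub_self]
  have hlπ : ∀ x, l (π x) = 0 := fun x => by
    rw [hπ, map_sub, map_smul, map_smul, smul_eq_mul, smul_eq_mul, mul_comm, sub_self]
  have hππ : ∀ x, π (π x) = u • π x := fun x => by rw [hπ (π x), hlπ, zero_smul, sub_zero]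
  let I : Ideal A := RingHom.ker (algebraMap A K)
  have hI : ∀ x j, s (π x) j ∈ I := fun x j => by
    obtain ⟨r, hr⟩ := h.2 ((1 : K) ⊗ₜ[A] x)
    have h2 := congrArg ((LinearMap.proj j ∘ₗ s ∘ₗ π).baseChange K) hr
    rw [map_smul, LinearMap.baseChange_tmul, LinearMap.baseChange_tmul] at h2
    simp only [LinearMap.comp_apply, hone, map_zero, tmul_zero, smul_zero, LinearMap.coe_proj,
      Function.eval] at h2
    have h3 := congrArg (TensorProduct.rid A K) h2
    rw [map_zero, TensorProduct.rid_tmul, Algebra.smul_def, mul_one] at h3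
    exact h3.symm
  let Q := LinearMap.range π
  let φ : Module.End A Q := u • LinearMap.id
  have hQ : LinearMap.range φ ≤ I • ⊤ := by
    rintro _ ⟨⟨_, x, rfl⟩, rfl⟩
    have : φ ⟨π x, x, rfl⟩ = ∑ j, s (π x) j • (⟨π (f (Pi.single j 1)), _, rfl⟩ : Q) := by
      refine Subtype.ext ?_
      show u • π x = _
      rw [← hππ]
      conv_lhs => rw [hsum (π x)]
      simp [map_sum, map_smul]
    rw [this]
    exact Submodule.sum_mem _ fun j _ => Submodule.smul_mem_smul (hI x j) Submodule.mem_top
  obtain ⟨p, hp, -, hc, hpφ⟩ := LinearMap.exists_monic_and_natDegree_eq_and_coeff_mem_pow_and_aeval_eq_zero A φ I hQ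
  have hφ : φ = algebraMap A (Module.End A Q) u := LinearMap.ext fun q => rfl
  have hkill : ∀ x, p.eval u • π x = 0 := fun x => by
    rw [hφ, Polynomial.aeval_algebraMap_apply] at hpφ
    exact congrArg Subtype.val (LinearMap.congr_fun hpφ ⟨π x, x, rfl⟩)
  have hpu : algebraMap A K (p.eval u) = algebraMap A K u ^ p.natDegree := by
    rw [Polynomial.eval_eq_sum_range, Finset.sum_range_succ, Polynomial.Monic.coeff_natDegree hp, one_mul,
      map_add, map_sum, Finset.sum_eq_zero, zero_add, map_pow]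
    intro k hk
    have hk' : p.natDegree - k ≠ 0 := by simp at hk; omega
    rw [map_mul, show algebraMap A K (p.coeff k) = 0 from Ideal.pow_le_self hk' (hc k), zero_mul]
  refine ⟨p.eval u * u, ?_, fun a ha => ?_, fun x => ⟨p.eval u * l x, ?_⟩⟩
  · rw [map_mul, hpu]
    exact mul_ne_zero (pow_ne_zero _ hi) hi
  · have h2 : l (a • one) = 0 := by rw [ha, map_zero]
    rw [map_smul, smul_eq_mul] at h2
    rw [mul_assoc, mul_comm u a, h2, mul_zero]
  · have h2 := hkill x
    rw [hπ, smul_sub, sub_eq_zero] at h2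
    rw [mul_smul, mul_smul, h2]

variable {X S : Scheme.{u}}

theorem pullO_pullMap (g : X ⟶ S) {W : S.Opens} {W' : X.Opens} (e : W' ≤ g ⁻¹ᵁ W) (a : Γ(S, W)) :
    (AmpleLib.pullO g).hom.app W' (pullMap g (Coh.structureModule S) e (show Γ(Coh.structureModule S, W) from a)) =
      (show Γ(Coh.structureModule X, W') from g.appLE W W' e a) := by
  have h := (Scheme.Modules.pullbackPushforwardAdjunction g).homEquiv_unit (X := Coh.structureModule S)
    (Y := Coh.structureModule X) (f := (AmpleLib.pullO g).hom)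
  have h2 : (Scheme.Modules.pullbackPushforwardAdjunction g).homEquiv _ _ (AmpleLib.pullO g).hom =
      SheafOfModules.unitToPushforwardObjUnit g.toRingCatSheafHom :=
    Equiv.apply_symm_apply _ _
  rw [h2] at h
  have h3 := congrArg (fun (φ : Coh.structureModule S ⟶ (Scheme.Modules.pushforward g).obj (Coh.structureModule X)) =>
    φ.app W (show Γ(Coh.structureModule S, W) from a)) h.symm
  have hnat := congr($((AmpleLib.pullO g).hom.mapPresheaf.naturality (homOfLE e).op)
    (((Scheme.Modules.pullbackPushforwardAdjunction g).unit.app (Coh.structureModule S)).app W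
      (show Γ(Coh.structureModule S, W) from a)))
  refine hnat.trans ?_
  refine (congrArg ((Coh.structureModule X).presheaf.map (homOfLE e).op) h3).trans ?_
  rfl

/-- If the fibre at `y` has only constant functions and no `H¹`, then `O_S → f_* O_X` is bijective near `y`. -/
theorem exists_nhd_bijective_app (f : X ⟶ S) [IsProper f] [LocallyOfFinitePresentation f] [Flat f] (y : S)
    (hy : Function.Bijective (algebraMap (S.residueField y) Γ(f.fiber y, ⊤)))
    (h1 : Subsingleton (CohIII.fiberH f (Coh.structureModule X) y 1)) :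
    ∃ U : S.Opens, y ∈ U ∧ ∀ V : S.Opens, V ≤ U → Function.Bijective (f.app V) := by
  let F := Coh.structureModule X
  have hF : FlatMod.IsFinLocFree F := BCLib.isFinLocFree_structureModule X
  obtain ⟨hq, hfp⟩ := isQCoh_and_isFP_of_isFinLocFree F hF
  haveI := hq
  haveI : HasInjectiveResolutions X.Modules := inferInstance
  haveI := isIso_bc0_fibre f hF y h1
  obtain ⟨V, D, hyV⟩ := GenBCLib.exists_dat_at hfp (TildePerf.isFlatOver_of_isFinLocFree f hF) y
  obtain ⟨a, ha, -, hsp, -⟩ := D.exists_vanish hyV h1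
  let W := S.basicOpen a
  have hW : IsAffineOpen W := D.hV.basicOpen a
  let M := (Scheme.Modules.pushforward f).obj F
  haveI : Coh.IsQCoh M := QCohLib.isQCoh_pushforward F f
  obtain ⟨hf1, hp1⟩ := D.finite_projective_basicOpen (n := 0) hsp (D.L.split_zero a)
  let eR := ((Scheme.Modules.pushforward f).rightDerivedZeroIsoSelf).app F
  let eL := LinearEquiv.ofBijective (QCohLib.appLinear eR.hom W) (ConcreteCategory.bijective_of_isIso (eR.hom.app W))
  haveI : Module.Finite Γ(S, W) Γ(M, W) := Module.Finite.equiv eL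
  haveI : Module.Projective Γ(S, W) Γ(M, W) := Module.Projective.of_equiv eL
  let g := S.fromSpecResidueField y
  let g' := f.fiberι y
  let f' := f.fiberToSpecResidueField y
  let e := GenBCLib.le_preimage_fromSpecResidueField (S := S) (s := y) (V := W) ha
  letI : Algebra Γ(S, W) Γ(Spec (S.residueField y), ⊤) := (g.appLE W ⊤ e).hom.toAlgebra
  letI := Module.compHom Γ((Scheme.Modules.pullback g).obj M, ⊤) (g.appLE W ⊤ e).hom
  haveI : IsScalarTower Γ(S, W) Γ(Spec (S.residueField y), ⊤) Γ((Scheme.Modules.pullback g).obj M, ⊤) :=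
    .of_algebraMap_smul fun _ _ => rfl
  haveI : IsDomain Γ(Spec (S.residueField y), ⊤) :=
    (Scheme.ΓSpecIso (S.residueField y)).commRingCatIsoToRingEquiv.toMulEquiv.isDomain (S.residueField y)
  let E := (isBaseChange_pullMapL g M hW (isAffineOpen_top _) e).equiv
  let one : Γ(M, W) := (show Γ(Coh.structureModule X, f ⁻¹ᵁ W) from (1 : Γ(X, f ⁻¹ᵁ W)))
  let bc := CohBC.bc0 f g f' g' (f.fiber_fac y) F
  have le : f' ⁻¹ᵁ ⊤ ≤ g' ⁻¹ᵁ (f ⁻¹ᵁ W) := by
    intro z _
    show f (g' z) ∈ W
    rw [← Scheme.Hom.comp_apply, f.fiber_fac y, Scheme.Hom.comp_apply]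
    exact e trivial
  have hone : Function.Bijective fun r : Γ(Spec (S.residueField y), ⊤) =>
      r • ((1 : Γ(Spec (S.residueField y), ⊤)) ⊗ₜ[Γ(S, W)] one) := by
    let Φ := fun z => (AmpleLib.pullO g').hom.app (f' ⁻¹ᵁ ⊤) (bc.app ⊤ (E z))
    have hΦ : Function.Bijective Φ :=
      (ConcreteCategory.bijective_of_isIso ((AmpleLib.pullO g').hom.app (f' ⁻¹ᵁ ⊤))).comp
        ((ConcreteCategory.bijective_of_isIso (bc.app ⊤)).comp E.bijective)
    refine (Function.Bijective.of_comp_iff' hΦ _).1 ?_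
    have hΦr : ∀ r, Φ (r • ((1 : Γ(Spec (S.residueField y), ⊤)) ⊗ₜ[Γ(S, W)] one)) =
        (show Γ(Coh.structureModule (f.fiber y), f' ⁻¹ᵁ ⊤) from f'.app ⊤ r) := fun r => by
      show (AmpleLib.pullO g').hom.app (f' ⁻¹ᵁ ⊤) (bc.app ⊤ (E _)) = _
      rw [map_smul, IsBaseChange.equiv_tmul, one_smul, Scheme.Modules.Hom.app_smul]
      refine (congrArg (fun t : Γ((Scheme.Modules.pushforward f').obj ((Scheme.Modules.pullback g').obj F), ⊤) =>
        (AmpleLib.pullO g').hom.app (f' ⁻¹ᵁ ⊤) (r • t)) (GenBCLib.bc0_pullMap (f.fiber_fac y) F e le one)).trans ?_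
      refine (Scheme.Modules.Hom.app_smul (AmpleLib.pullO g').hom (f'.app ⊤ r) (pullMap g' F le one)).trans ?_
      rw [pullO_pullMap g' le (1 : Γ(X, f ⁻¹ᵁ W)), map_one]
      show f'.app ⊤ r * (1 : Γ(f.fiber y, f' ⁻¹ᵁ ⊤)) = f'.app ⊤ r
      exact mul_one _
    have hb : Function.Bijective (f'.app ⊤) := by
      have h2 : Function.Bijective (Scheme.ΓSpecIso (S.residueField y)).inv :=
        ConcreteCategory.bijective_of_isIso _
      exact (Function.Bijective.of_comp_iff _ h2).1 hy
    exact (congrArg Function.Bijective (funext hΦr)).mpr hb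
  obtain ⟨c, hc, hc1, hc2⟩ := exists_rank_one one hone
  have hc' : S.evaluation W y ha c ≠ 0 := fun h0 => hc (by
    show g.appLE W ⊤ e c = 0
    rw [GenBCLib.appLE_fromSpecResidueField ha hW]
    show (Scheme.ΓSpecIso (S.residueField y)).inv (S.evaluation W y ha c) = 0
    rw [h0, map_zero])
  have hyc : y ∈ S.basicOpen c := (S.evaluation_ne_zero_iff_mem_basicOpen y ha c).1 hc'
  have h1' : ∀ r, f.app W r = 0 → c * r = 0 := fun r hr => hc1 r (by
    show f.app W r * 1 = (0 : Γ(X, f ⁻¹ᵁ W))
    rw [hr, zero_mul])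
  have h2 : ∀ t, ∃ r, f.app W c * t = f.app W r := fun t => by
    obtain ⟨r, hr⟩ := hc2 (show Γ(Coh.structureModule X, f ⁻¹ᵁ W) from t)
    refine ⟨r, ?_⟩
    change f.app W c * t = f.app W r * 1 at hr
    rw [hr, mul_one]
  have hbasic : ∀ h : Γ(S, W), S.basicOpen h ≤ S.basicOpen c → Function.Bijective (f.app (S.basicOpen h)) := by
    intro h hh
    haveI := hW.isLocalization_basicOpen h
    have hcpt : IsCompact ((f ⁻¹ᵁ W) : Set X) :=
      (quasiCompact_iff_forall_isAffineOpen.1 (inferInstanceAs (QuasiCompact f))) W hW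
    haveI hpr : IsProper (BCLib.restOver f hW) := BCLib.isProper_restOver f hW
    have hqs : IsQuasiSeparated ((f ⁻¹ᵁ W) : Set X) := by
      haveI : QuasiSeparatedSpace (f ⁻¹ᵁ W : Scheme.{u}) :=
        AlgebraicGeometry.quasiSeparatedSpace_of_quasiSeparated (BCLib.restOver f hW)
      exact (isQuasiSeparated_iff_quasiSeparatedSpace _ (f ⁻¹ᵁ W).2).2 ‹_›
    haveI := isLocalization_basicOpen_of_qcqs hcpt hqs (f.app W h)
    have he : f ⁻¹ᵁ S.basicOpen h = X.basicOpen (f.app W h) := Scheme.preimage_basicOpen f h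
    let φ : Γ(S, S.basicOpen h) →+* Γ(X, X.basicOpen (f.app W h)) :=
      (X.presheaf.map (eqToHom he.symm).op).hom.comp (f.app (S.basicOpen h)).hom
    have hb : Function.Bijective φ := by
      refine BCLib.bijective_of_away (A := Γ(S, W)) (S := Γ(X, f ⁻¹ᵁ W)) (f.app W).hom φ h (fun r => ?_) c ?_ h1' h2
      · exact RpushLib.app_map_map f _ _ _ r
      · have hu : IsUnit (S.presheaf.map (homOfLE (S.basicOpen_le c)).op c) := RingedSpace.isUnit_res_basicOpen _ c
        have := hu.map (S.presheaf.map (homOfLE hh).op).hom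
        rw [← ConcreteCategory.comp_apply, ← Functor.map_comp] at this
        exact this
    have hres : Function.Bijective (X.presheaf.map (eqToHom he.symm).op) := ConcreteCategory.bijective_of_isIso _
    exact (Function.Bijective.of_comp_iff' hres _).1 hb
  refine ⟨S.basicOpen c, hyc, fun V' hV' => ?_⟩
  have hcov : ∀ O : S.Opens, O ≤ S.basicOpen c → ∀ v : O, ∃ h : Γ(S, W), S.basicOpen h ≤ O ∧
      S.basicOpen h ≤ S.basicOpen c ∧ v.1 ∈ S.basicOpen h := fun O hO v => by
    obtain ⟨h, hh, hv⟩ := hW.exists_basicOpen_le v (S.basicOpen_le c (hO v.2))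
    exact ⟨h, hh, hh.trans hO, hv⟩
  have hres : ∀ {O O' : S.Opens} (e : O' ≤ O) (s : Γ(S, O)),
      X.presheaf.map (homOfLE (f.preimage_mono e)).op (f.app O s) = f.app O' (S.presheaf.map (homOfLE e).op s) :=
    fun {O O'} e s => (ConcreteCategory.congr_hom (f.naturality (homOfLE e).op) s).symm
  have hinjV : ∀ O : S.Opens, O ≤ S.basicOpen c → Function.Injective (f.app O) := by
    intro O hO s t hst
    choose h hh hh' hv using hcov O hO
    refine TopCat.Sheaf.eq_of_locally_eq' S.sheaf (fun v => S.basicOpen (h v)) O (fun v => homOfLE (hh v))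
      (fun v hv' => Opens.mem_iSup.2 ⟨⟨v, hv'⟩, hv _⟩) s t fun v => (hbasic (h v) (hh' v)).1 ?_
    show f.app _ (S.presheaf.map _ s) = f.app _ (S.presheaf.map _ t)
    rw [← hres, ← hres, hst]
  refine ⟨hinjV V' hV', fun t => ?_⟩
  choose h hh hh' hv using hcov V' hV'
  choose s hs using fun v => (hbasic (h v) (hh' v)).2
    (X.presheaf.map (homOfLE (f.preimage_mono (hh v))).op t)
  obtain ⟨σ, hσ, -⟩ := TopCat.Sheaf.existsUnique_gluing' S.sheaf (fun v => S.basicOpen (h v)) V'
    (fun v => homOfLE (hh v)) (fun v hv' => Opens.mem_iSup.2 ⟨⟨v, hv'⟩, hv _⟩) s (fun v w => by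
      apply hinjV _ ((inf_le_left.trans (hh v)).trans hV')
      show f.app _ (S.presheaf.map _ (s v)) = f.app _ (S.presheaf.map _ (s w))
      rw [← homOfLE_leOfHom (Opens.infLELeft _ _), ← homOfLE_leOfHom (Opens.infLERight _ _), ← hres, ← hres,
        hs, hs, ← ConcreteCategory.comp_apply, ← ConcreteCategory.comp_apply, ← Functor.map_comp,
        ← Functor.map_comp]
      rfl)
  refine ⟨σ, TopCat.Sheaf.eq_of_locally_eq' X.sheaf (fun v => f ⁻¹ᵁ S.basicOpen (h v)) (f ⁻¹ᵁ V')
    (fun v => homOfLE (f.preimage_mono (hh v)))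
    (fun x hx => Opens.mem_iSup.2 ⟨⟨f x, hx⟩, hv ⟨f x, hx⟩⟩) _ t fun v => ?_⟩
  show X.presheaf.map _ (f.app V' σ) = _
  rw [hres]
  refine Eq.trans (congrArg (f.app (S.basicOpen (h v))) ?_) (hs v)
  exact hσ v

end Groth.Agent.GenSeesawLib
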