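import Groth.Agent.GenSeesawLib.Glue
import Groth.Agent.AVLib.SeesawBase
import Groth.Agent.FlatBC.Scheme

/-!
# The locus of trivial fibres is closed; the seesaw over a connected base; `H¹(O)` of the fibres of a product
-/

set_option autoImplicit false
set_option backward.isDefEq.respectTransparency false
set_option backward.isDefEq.respectTransparency.types false
set_option linter.style.haveILetI false
set_option maxHeartbeats 1600000

universe u

open CategoryTheory CategoryTheory.Limits AlgebraicGeometry TopologicalSpace Opposite TensorProduct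
open Groth.Agent.PullbackMod Groth.Agent.ParaFLib Groth.Agent.AmpleLib

noncomputable section

namespace Groth.Agent.GenSeesawLib

variable {X S : Scheme.{u}} (f : X ⟶ S)

/-- Over any base the fibres with a section form a closed set. -/
theorem isClosed_fiberRank_pos [IsProper f] [LocallyOfFinitePresentation f] [Flat f] {F : X.Modules}
    (hF : FlatMod.IsFinLocFree F) : IsClosed {y : S | 0 < CohIII.fiberRank f F 0 y} := by
  obtain ⟨hq, hfp⟩ := isQCoh_and_isFP_of_isFinLocFree F hF
  haveI := hq
  rw [← isOpen_compl_iff, isOpen_iff_mem_nhds]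
  intro y hy
  simp only [Set.mem_compl_iff, Set.mem_setOf_eq, not_lt, Nat.le_zero] at hy
  obtain ⟨V, D, hyV⟩ := GenBCLib.exists_dat_at hfp (TildePerf.isFlatOver_of_isFinLocFree f hF) y
  haveI hfin : Module.Finite (S.residueField y) (CohIII.fiberH f F y 0) := by
    letI := GenBCLib.kAlg S hyV
    obtain ⟨ev, hev, -⟩ := D.exists_evFibre hyV 0
    exact Module.Finite.of_surjective ev hev
  have hsub : Subsingleton (CohIII.fiberH f F y 0) := by
    by_contra h
    rw [not_subsingleton_iff_nontrivial] at h
    exact absurd (Module.finrank_pos (R := S.residueField y) (M := CohIII.fiberH f F y 0)) (by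
      have : Module.finrank (S.residueField y) (CohIII.fiberH f F y 0) = 0 := hy
      omega)
  obtain ⟨a, ha, hg, -, hk⟩ := D.exists_vanish hyV hsub
  refine Filter.mem_of_superset ((S.basicOpen a).2.mem_nhds ha) fun v hv hpos => ?_
  haveI := D.subsingleton_fiberH hv hg hk
  have : CohIII.fiberRank f F 0 v = 0 := Module.finrank_zero_of_subsingleton
  simp only [Set.mem_setOf_eq, this, lt_self_iff_false] at hpos

variable [IsProper f] [LocallyOfFinitePresentation f] [Flat f] [GeometricallyIntegral f]

/-- Over any base the fibres on which an invertible module is trivial form a closed set. -/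
theorem isClosed_triv {L : X.Modules} (hL : PicF.IsInvertible L) :
    IsClosed {y : S | CubeLib.Triv ((Scheme.Modules.pullback (f.fiberι y)).obj L)} := by
  obtain ⟨N, hN, ⟨e⟩⟩ := AmpleEmb.exists_isInverseOf hL
  have h : {y : S | CubeLib.Triv ((Scheme.Modules.pullback (f.fiberι y)).obj L)} =
      {y : S | 0 < CohIII.fiberRank f L 0 y} ∩ {y : S | 0 < CohIII.fiberRank f N 0 y} := by
    ext y
    constructor
    · intro hy
      have hNy : CubeLib.Triv ((Scheme.Modules.pullback (f.fiberι y)).obj N) := by
        obtain ⟨i⟩ := CubeLib.triv_iff.1 hy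
        exact CubeLib.triv_iff.2 ⟨(unitL _).symm ≪≫ AmpleLib.tIso i.symm (Iso.refl _) ≪≫
          (pullTensor (f.fiberι y) L N).symm ≪≫ (Scheme.Modules.pullback (f.fiberι y)).mapIso e ≪≫ pullO _⟩
      exact ⟨Nat.one_pos.trans_eq (CubeLib.fiberRank_eq_one_of_triv f y (AVLib.bijective_fiber f y) hy).symm,
        Nat.one_pos.trans_eq (CubeLib.fiberRank_eq_one_of_triv f y (AVLib.bijective_fiber f y) hNy).symm⟩
    · exact fun hy => CubeLib.triv_fiber_of_fiberRank_pos f hL hN e y hy.1 hy.2
  rw [h]
  exact (isClosed_fiberRank_pos f (CurveLib.isFinLocFree_of_isInvertible hL)).inter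
    (isClosed_fiberRank_pos f (CurveLib.isFinLocFree_of_isInvertible hN))

/-- With no `H¹` on the fibres, a module trivial on one fibre over a connected base comes from the base. -/
theorem exists_iso_pullback_of_connected [PreconnectedSpace S]
    (h1 : ∀ y, Subsingleton (Coh.HH (f.fiber y) (Coh.structureModule (f.fiber y)) 1)) {L : X.Modules}
    (hL : PicF.IsInvertible L) (y₀ : S) (hy₀ : CubeLib.Triv ((Scheme.Modules.pullback (f.fiberι y₀)).obj L)) :
    ∃ N : S.Modules, PicF.IsInvertible N ∧ Nonempty ((Scheme.Modules.pullback f).obj N ≅ L) := by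
  refine exists_iso_pullback f hL (AVLib.bijective_fiber f) h1 fun y => ?_
  have hcl : IsClopen {y : S | CubeLib.Triv ((Scheme.Modules.pullback (f.fiberι y)).obj L)} := by
    refine ⟨isClosed_triv f hL, isOpen_iff_forall_mem_open.2 fun y hy => ?_⟩
    obtain ⟨U, hyU, s, hs⟩ := exists_gen_nhd_of_triv f hL y (h1 y) hy
    refine ⟨U, fun z hz => ⟨_, (AmpleEmb.gen_pullMap (f.fiberι z) hL hs).res ?_⟩, U.2, hyU⟩
    intro w _
    show f (f.fiberι z w) ∈ U
    have hw : f.fiberι z w ∈ Set.range (f.fiberι z) := ⟨w, rfl⟩
    rw [f.range_fiberι z] at hw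
    rw [show f (f.fiberι z w) = z from hw]
    exact hz
  exact (hcl.eq_univ ⟨y₀, hy₀⟩).ge (Set.mem_univ y)

omit [IsProper f] [LocallyOfFinitePresentation f] [Flat f] [GeometricallyIntegral f] f in
/-- `H¹(O)` of the fibres of a product over a field. -/
theorem subsingleton_HH_fibre_fst {k : Type u} [Field k] {T : Scheme.{u}} (s : S ⟶ Spec (CommRingCat.of k))
    (t : T ⟶ Spec (CommRingCat.of k)) [IsProper t] (p : ℕ) (h : Subsingleton (Coh.HH T (Coh.structureModule T) p))
    (y : S) :
    Subsingleton (Coh.HH ((pullback.fst s t).fiber y) (Coh.structureModule ((pullback.fst s t).fiber y)) p) := by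
  let φ : CommRingCat.of k ⟶ S.residueField y := Spec.preimage (S.fromSpecResidueField y ≫ s)
  letI : Algebra k (S.residueField y) := φ.hom.toAlgebra
  have hφ : S.fromSpecResidueField y ≫ s = Spec.map (CommRingCat.ofHom (algebraMap k (S.residueField y))) :=
    (Spec.map_preimage _).symm
  have hc : IsPullback ((pullback.fst s t).fiberι y ≫ pullback.snd s t)
      ((pullback.fst s t).fiberToSpecResidueField y) t
      (Spec.map (CommRingCat.ofHom (algebraMap k (S.residueField y)))) := by
    rw [← hφ]
    exact (IsPullback.of_hasPullback (pullback.fst s t) (S.fromSpecResidueField y)).paste_horiz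
      (IsPullback.of_hasPullback s t).flip
  haveI : CompactSpace T := QuasiCompact.compactSpace_of_compactSpace t
  haveI : QuasiSeparatedSpace T := AlgebraicGeometry.quasiSeparatedSpace_of_quasiSeparated t
  haveI := InvExt.isQCoh_of_isInvertible (ParaFLib.isInvertible_structureModule (X := T))
  let g' := (pullback.fst s t).fiberι y ≫ pullback.snd s t
  let a : k ≃+* Γ(Spec (CommRingCat.of k), ⊤) :=
    (Scheme.ΓSpecIso (CommRingCat.of k)).symm.commRingCatIsoToRingEquiv
  let b : S.residueField y ≃+* Γ(Spec (S.residueField y), ⊤) :=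
    (Scheme.ΓSpecIso (S.residueField y)).symm.commRingCatIsoToRingEquiv
  obtain ⟨e⟩ := FlatBC.nonempty_affine hc (Coh.structureModule T) a b
    (fun x => (congr($(Scheme.ΓSpecIso_inv_naturality (CommRingCat.ofHom (algebraMap k (S.residueField y)))).hom x)).symm) p
  letI : Module k (Coh.HH T (Coh.structureModule T) p) := Module.compHom _ (FlatBC.globalHom t a)
  haveI : Subsingleton (S.residueField y ⊗[k] Coh.HH T (Coh.structureModule T) p) :=
    subsingleton_of_forall_eq 0 fun z => by
      induction z using TensorProduct.induction_on with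
      | zero => rfl
      | tmul c x => rw [Subsingleton.elim x 0, TensorProduct.tmul_zero]
      | add u v hu hv => rw [hu, hv, add_zero]
  exact CurveLib.subsingleton_HH_iso (pullO g') p e.symm.toEquiv.subsingleton

end Groth.Agent.GenSeesawLib
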