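import Groth.Agent.GenBCLib.Helpers
import Groth.Agent.GenBCLib.Deg0
import Groth.Agent.BCLib.TrivNhd
import Groth.Agent.CubeLib.Small
import Groth.Agent.PullbackMod.LocFree

/-!
# An invertible module trivial on a fibre is trivial near the fibre, over any base
-/

set_option autoImplicit false
set_option backward.isDefEq.respectTransparency false
set_option backward.isDefEq.respectTransparency.types false
set_option backward.defeqAttrib.useBackward true
set_option linter.style.haveILetI false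
set_option maxHeartbeats 1600000

universe u

open CategoryTheory CategoryTheory.Limits AlgebraicGeometry TopologicalSpace Opposite TensorProduct
open Groth.Agent.PullbackMod Groth.Agent.ParaFLib Groth.Agent.AmpleLib

noncomputable section

namespace Groth.Agent.GenSeesawLib

variable {X S : Scheme.{u}}

theorem exists_smul_eq_evaluation {V : S.Opens} (hV : IsAffineOpen V) {s : S} (hs : s ∈ V) (c : S.residueField s) :
    ∃ a b : Γ(S, V), IsUnit (S.evaluation V s hs b) ∧ S.evaluation V s hs b * c = S.evaluation V s hs a := by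
  obtain ⟨t, rfl⟩ := S.residue_surjective s c
  letI := TopCat.Presheaf.algebra_section_stalk S.presheaf ⟨s, hs⟩
  haveI := hV.isLocalization_stalk ⟨s, hs⟩
  obtain ⟨⟨a, b⟩, h⟩ := IsLocalization.surj (hV.primeIdealOf ⟨s, hs⟩).asIdeal.primeCompl t
  refine ⟨a, b.1, ?_, ?_⟩
  · exact (IsLocalization.map_units (S.presheaf.stalk s) b).map (S.residue s).hom
  · show S.residue s (algebraMap Γ(S, V) (S.presheaf.stalk s) b.1) * S.residue s t =
      S.residue s (algebraMap Γ(S, V) (S.presheaf.stalk s) a)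
    rw [← map_mul, mul_comm]
    exact congrArg (S.residue s) h

theorem exists_smul_eq_appLE {V : S.Opens} (hV : IsAffineOpen V) {s : S} (hs : s ∈ V)
    (r : Γ(Spec (S.residueField s), ⊤)) :
    ∃ a b : Γ(S, V),
      IsUnit ((S.fromSpecResidueField s).appLE V ⊤ (GenBCLib.le_preimage_fromSpecResidueField hs) b) ∧
      (S.fromSpecResidueField s).appLE V ⊤ (GenBCLib.le_preimage_fromSpecResidueField hs) b * r =
        (S.fromSpecResidueField s).appLE V ⊤ (GenBCLib.le_preimage_fromSpecResidueField hs) a := by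
  obtain ⟨a, b, hb, h⟩ := exists_smul_eq_evaluation hV hs ((Scheme.ΓSpecIso (S.residueField s)).hom r)
  have e := GenBCLib.appLE_fromSpecResidueField hs hV
  refine ⟨a, b, ?_, ?_⟩
  · rw [e]
    exact hb.map (Scheme.ΓSpecIso (S.residueField s)).inv.hom
  · rw [e]
    have h' := congrArg (Scheme.ΓSpecIso (S.residueField s)).inv h
    rw [map_mul] at h'
    refine Eq.trans ?_ h'
    congr 1
    exact (Iso.hom_inv_id_apply (Scheme.ΓSpecIso (S.residueField s)) r).symm

/-- Over a point, every section of a pullback is a multiple of a pulled back one. -/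
theorem exists_smul_eq_pullMap {M : S.Modules} [Coh.IsQCoh M] {V : S.Opens} (hV : IsAffineOpen V) {s : S}
    (hs : s ∈ V) (x : Γ((Scheme.Modules.pullback (S.fromSpecResidueField s)).obj M, ⊤)) :
    ∃ (b : Γ(S, V)) (t : Γ(M, V)),
      IsUnit ((S.fromSpecResidueField s).appLE V ⊤ (GenBCLib.le_preimage_fromSpecResidueField hs) b) ∧
      (S.fromSpecResidueField s).appLE V ⊤ (GenBCLib.le_preimage_fromSpecResidueField hs) b • x =
        pullMap (S.fromSpecResidueField s) M (GenBCLib.le_preimage_fromSpecResidueField hs) t := by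
  let g := S.fromSpecResidueField s
  let e := GenBCLib.le_preimage_fromSpecResidueField hs
  letI : Algebra Γ(S, V) Γ(Spec (S.residueField s), ⊤) := (g.appLE V ⊤ e).hom.toAlgebra
  letI := Module.compHom Γ((Scheme.Modules.pullback g).obj M, ⊤) (g.appLE V ⊤ e).hom
  haveI : IsScalarTower Γ(S, V) Γ(Spec (S.residueField s), ⊤) Γ((Scheme.Modules.pullback g).obj M, ⊤) :=
    .of_algebraMap_smul fun _ _ => rfl
  let E := (isBaseChange_pullMapL g M hV (isAffineOpen_top _) e).equiv
  obtain ⟨z, rfl⟩ := E.surjective x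
  induction z using TensorProduct.induction_on with
  | zero => exact ⟨1, 0, by rw [map_one]; exact isUnit_one, by rw [map_zero, map_zero, smul_zero]⟩
  | tmul r t =>
    obtain ⟨a, b, hb, h⟩ := exists_smul_eq_appLE hV hs r
    refine ⟨b, a • t, hb, ?_⟩
    show g.appLE V ⊤ e b • E (r ⊗ₜ t) = pullMap g M e (a • t)
    rw [IsBaseChange.equiv_tmul, smul_smul, pullMap_smul, h]
    rfl
  | add z w hz hw =>
    obtain ⟨b, t, hb, ht⟩ := hz
    obtain ⟨b', t', hb', ht'⟩ := hw
    refine ⟨b * b', b' • t + b • t', by rw [map_mul]; exact hb.mul hb', ?_⟩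
    rw [map_add (pullMap g M e), pullMap_smul, pullMap_smul, ← ht, ← ht', map_add E, smul_add, map_mul, smul_smul,
      smul_smul, mul_comm]

/-- The degree zero base change map to a fibre with vanishing `H¹` is an isomorphism. -/
theorem isIso_bc0_fibre (f : X ⟶ S) [IsProper f] [LocallyOfFinitePresentation f] [Flat f] {F : X.Modules}
    (hF : FlatMod.IsFinLocFree F) (s : S) (h1 : Subsingleton (CohIII.fiberH f F s 1)) :
    IsIso (CohBC.bc0 f (S.fromSpecResidueField s) (f.fiberToSpecResidueField s) (f.fiberι s) (f.fiber_fac s) F) := by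
  obtain ⟨hq, hfp⟩ := isQCoh_and_isFP_of_isFinLocFree F hF
  haveI := hq
  haveI : HasInjectiveResolutions X.Modules := inferInstance
  obtain ⟨V, D, hsV⟩ := GenBCLib.exists_dat_at hfp (TildePerf.isFlatOver_of_isFinLocFree f hF) s
  obtain ⟨a, ha, -, hsp, -⟩ := D.exists_vanish hsV h1
  have h : IsPullback (f.fiberι s) (f.fiberToSpecResidueField s) f (S.fromSpecResidueField s) :=
    IsPullback.of_hasPullback f (S.fromSpecResidueField s)
  haveI : IsSeparated (f.fiberToSpecResidueField s) := MorphismProperty.of_isPullback (P := @IsSeparated) h inferInstance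
  haveI : QuasiCompact (f.fiberToSpecResidueField s) :=
    MorphismProperty.of_isPullback (P := @QuasiCompact) h inferInstance
  haveI : Coh.IsQCoh ((Scheme.Modules.pullback (f.fiberι s)).obj F) := PullbackMod.isQCoh_pullback _ F
  exact GenBCLib.isIso_bc0 h F fun z => ⟨V, D, a, by rw [Scheme.fromSpecResidueField_apply]; exact ha, hsp⟩

/-- An invertible module trivial on a fibre whose sections all lift is trivial near the fibre. -/
theorem exists_gen_nhd_of_epi (f : X ⟶ S) [IsProper f] [LocallyOfFinitePresentation f] [Flat f] {L : X.Modules}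
    (hL : PicF.IsInvertible L) (y : S)
    (hepi : Epi (CohBC.bc0 f (S.fromSpecResidueField y) (f.fiberToSpecResidueField y) (f.fiberι y) (f.fiber_fac y) L))
    (hT : CubeLib.Triv ((Scheme.Modules.pullback (f.fiberι y)).obj L)) :
    ∃ U : S.Opens, y ∈ U ∧ ∃ s : Γ(L, f ⁻¹ᵁ U), Gen (f ⁻¹ᵁ U) s := by
  haveI : Coh.IsQCoh L := InvExt.isQCoh_of_isInvertible hL
  let M := (Scheme.Modules.pushforward f).obj L
  haveI : Coh.IsQCoh M := QCohLib.isQCoh_pushforward L f
  let g := S.fromSpecResidueField y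
  let g' := f.fiberι y
  let f' := f.fiberToSpecResidueField y
  haveI := hepi
  obtain ⟨τ, hτ⟩ := hT
  let bc := CohBC.bc0 f g f' g' (f.fiber_fac y) L
  obtain ⟨x, hx⟩ := GenBCLib.surjective_top_of_epi bc (show Γ((Scheme.Modules.pushforward f').obj
    ((Scheme.Modules.pullback g').obj L), ⊤) from τ)
  obtain ⟨_, ⟨V : S.Opens, (hV : IsAffineOpen V), rfl⟩, hyV, -⟩ :=
    S.isBasis_affineOpens.exists_subset_of_mem_open (Set.mem_univ y) isOpen_univ
  let e := GenBCLib.le_preimage_fromSpecResidueField hyV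
  obtain ⟨b, t, hb, ht⟩ := exists_smul_eq_pullMap (M := M) hV hyV x
  have le : f' ⁻¹ᵁ ⊤ ≤ g' ⁻¹ᵁ (f ⁻¹ᵁ V) := by
    intro z _
    show f (g' z) ∈ V
    rw [← Scheme.Hom.comp_apply, f.fiber_fac y, Scheme.Hom.comp_apply]
    exact e trivial
  have key : pullMap g' L le t = f'.app ⊤ (g.appLE V ⊤ e b) • (show Γ((Scheme.Modules.pullback g').obj L, f' ⁻¹ᵁ ⊤) from τ) := by
    have h2 := congrArg (bc.app ⊤) ht
    rw [GenBCLib.bc0_pullMap (f.fiber_fac y) L e le t, Scheme.Modules.Hom.app_smul, hx] at h2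
    exact h2.symm
  -- the germs of `t` generate along the fibre
  have hgen : ∀ x : X, f x = y → ∃ O : X.Opens, x ∈ O ∧ ∃ hle : O ≤ f ⁻¹ᵁ V,
      Gen O (L.presheaf.map (homOfLE hle).op t) := by
    intro x hx'
    obtain ⟨z, rfl⟩ : x ∈ Set.range g' := by rw [f.range_fiberι y]; exact hx'
    obtain ⟨W, r₀, hxW, hr₀⟩ := ParaFLib.exists_gen_nhd hL (g' z)
    have hxV : g' z ∈ f ⁻¹ᵁ V := le (show z ∈ f' ⁻¹ᵁ ⊤ from trivial)
    let O := W ⊓ f ⁻¹ᵁ V
    have hO := hr₀.res (inf_le_left : O ≤ W)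
    obtain ⟨r, hr⟩ := (hO O le_rfl).2 (L.presheaf.map (homOfLE (inf_le_right : O ≤ f ⁻¹ᵁ V)).op t)
    simp only [ParaFLib.res_res] at hr
    set e₀ := L.presheaf.germ O (g' z) ⟨hxW, hxV⟩ (L.presheaf.map (homOfLE (inf_le_left : O ≤ W)).op r₀)
    have he₀ := hO.bijective_germ (g' z) ⟨hxW, hxV⟩
    set a := X.presheaf.germ O (g' z) ⟨hxW, hxV⟩ r with ha
    have hta : a • e₀ = L.presheaf.germ (f ⁻¹ᵁ V) (g' z) hxV t := by
      rw [ha, ← germ_smul', hr, TopCat.Presheaf.germ_res_apply]
    have key' : g'.stalkMap z a • pullStalk g' L z e₀ =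
        (f.fiber y).presheaf.germ (f' ⁻¹ᵁ ⊤) z trivial (f'.app ⊤ (g.appLE V ⊤ e b)) •
          ((Scheme.Modules.pullback g').obj L).presheaf.germ (f' ⁻¹ᵁ ⊤) z trivial τ := by
      rw [← pullStalk_smul, hta, pullStalk_germ' g' L z hxV (W' := f' ⁻¹ᵁ ⊤) trivial le, key, germ_smul']
    have hσ := hτ.bijective_germ z (show z ∈ (⊤ : (f.fiber y).Opens) from trivial)
    have hbij := bijective_pullStalk g' z he₀
    have h2 : Function.Bijective fun r : (f.fiber y).presheaf.stalk z => r • g'.stalkMap z a • pullStalk g' L z e₀ := by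
      rw [key']
      exact (AmpleLib.bijective_smul_iff hσ _).2 (((hb.map (f'.app ⊤).hom)).map _)
    have hau : IsUnit a :=
      isUnit_of_map_unit (g'.stalkMap z).hom a ((AmpleLib.bijective_smul_iff hbij _).1 h2)
    refine ⟨X.basicOpen r, (X.mem_basicOpen r _ _).2 hau, (X.basicOpen_le r).trans inf_le_right, ?_⟩
    have hO' := hO.res (X.basicOpen_le r)
    have := hO'.smul (a := X.presheaf.map (homOfLE (X.basicOpen_le r)).op r)
      (X.toRingedSpace.isUnit_res_basicOpen r)
    rw [← L.map_smul, hr] at this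
    refine (congrArg (Gen (X.basicOpen r)) ?_).mp this
    exact ConcreteCategory.congr_hom (L.presheaf.map_comp _ _).symm t
  let G : X.Opens := sSup {O : X.Opens | ∃ hle : O ≤ f ⁻¹ᵁ V, Gen O (L.presheaf.map (homOfLE hle).op t)}
  obtain ⟨U₀, hyU, hU₀⟩ := BCLib.exists_open_preimage_le f G y fun x hx => by
    obtain ⟨O, hxO, hO⟩ := hgen x hx
    exact Opens.mem_sSup.2 ⟨O, hO, hxO⟩
  refine ⟨U₀ ⊓ V, ⟨hyU, hyV⟩, L.presheaf.map (homOfLE (f.preimage_mono inf_le_right)).op t, ?_⟩
  refine gen_of_germ fun x hx => ?_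
  obtain ⟨O, ⟨hle, hO⟩, hxO⟩ := Opens.mem_sSup.1 (hU₀ hx.1)
  have := hO.bijective_germ x hxO
  rw [TopCat.Presheaf.germ_res_apply] at this ⊢
  exact this

/-- An invertible module trivial on a fibre with vanishing `H¹` is trivial near the fibre. -/
theorem exists_gen_nhd (f : X ⟶ S) [IsProper f] [LocallyOfFinitePresentation f] [Flat f] {L : X.Modules}
    (hL : PicF.IsInvertible L) (y : S) (h1 : Subsingleton (CohIII.fiberH f L y 1))
    (hT : CubeLib.Triv ((Scheme.Modules.pullback (f.fiberι y)).obj L)) :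
    ∃ U : S.Opens, y ∈ U ∧ ∃ s : Γ(L, f ⁻¹ᵁ U), Gen (f ⁻¹ᵁ U) s := by
  haveI := isIso_bc0_fibre f (CurveLib.isFinLocFree_of_isInvertible hL) y h1
  exact exists_gen_nhd_of_epi f hL y inferInstance hT

end Groth.Agent.GenSeesawLib
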