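import Groth.Agent.GenSeesawLib.Closed
import Groth.Agent.GenBCLib.SteinUnit
import Groth.Agent.PicTrivLib.Push

/-!
# Modules which come from the base, through their sections on the fibres
-/

set_option autoImplicit false
set_option backward.isDefEq.respectTransparency false
set_option backward.isDefEq.respectTransparency.types false
set_option linter.style.haveILetI false
set_option maxHeartbeats 1600000

universe u

open CategoryTheory CategoryTheory.Limits AlgebraicGeometry TopologicalSpace Opposite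
open Groth.Agent.PullbackMod Groth.Agent.ParaFLib Groth.Agent.AmpleLib

noncomputable section

namespace Groth.Agent.GenSeesawLib

variable {X S : Scheme.{u}} (f : X ⟶ S)

theorem exists_gen_nhd_of_iso_pullback {N : S.Modules} (hN : PicF.IsInvertible N) {P : X.Modules}
    (e : (Scheme.Modules.pullback f).obj N ≅ P) (y : S) :
    ∃ U : S.Opens, y ∈ U ∧ ∃ s : Γ(P, f ⁻¹ᵁ U), Gen (f ⁻¹ᵁ U) s := by
  obtain ⟨U, s, hyU, hs⟩ := ParaFLib.exists_gen_nhd hN y
  exact ⟨U, hyU, _, gen_of_modIso e (AmpleEmb.gen_pullMap f hN hs)⟩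

theorem triv_fibre_of_gen {P : X.Modules} (hP : PicF.IsInvertible P) {U : S.Opens} {s : Γ(P, f ⁻¹ᵁ U)}
    (hs : Gen (f ⁻¹ᵁ U) s) {y : S} (hy : y ∈ U) :
    CubeLib.Triv ((Scheme.Modules.pullback (f.fiberι y)).obj P) := by
  refine ⟨_, (AmpleEmb.gen_pullMap (f.fiberι y) hP hs).res ?_⟩
  intro w _
  show f (f.fiberι y w) ∈ U
  have hw : f.fiberι y w ∈ Set.range (f.fiberι y) := ⟨w, rfl⟩
  rw [f.range_fiberι y] at hw
  rw [show f (f.fiberι y w) = y from hw]
  exact hy

/-- If the fibre has only constant functions, a module with a basis near the fibre has all sections of the fibre liftable. -/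
theorem epi_bc0_of_gen {P : X.Modules} (hP : PicF.IsInvertible P) {U : S.Opens} {s : Γ(P, f ⁻¹ᵁ U)}
    (hs : Gen (f ⁻¹ᵁ U) s) {y : S} (hy : y ∈ U)
    (hb : Function.Bijective (algebraMap (S.residueField y) Γ(f.fiber y, ⊤))) :
    Epi (CohBC.bc0 f (S.fromSpecResidueField y) (f.fiberToSpecResidueField y) (f.fiberι y) (f.fiber_fac y) P) := by
  refine GenBCLib.epi_of_surjective_top _ ?_
  let g := S.fromSpecResidueField y
  let g' := f.fiberι y
  let f' := f.fiberToSpecResidueField y
  let M := (Scheme.Modules.pushforward f).obj P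
  have e : (⊤ : (Spec (S.residueField y)).Opens) ≤ g ⁻¹ᵁ U := GenBCLib.le_preimage_fromSpecResidueField hy
  have le : f' ⁻¹ᵁ (⊤ : (Spec (S.residueField y)).Opens) ≤ g' ⁻¹ᵁ (f ⁻¹ᵁ U) := by
    intro z _
    show f (g' z) ∈ U
    rw [← Scheme.Hom.comp_apply, f.fiber_fac y, Scheme.Hom.comp_apply]
    exact e trivial
  intro t
  obtain ⟨r, hr⟩ := ((AmpleEmb.gen_pullMap g' hP hs) (f' ⁻¹ᵁ ⊤) le).2 t
  obtain ⟨c, hc⟩ : ∃ c : Γ(Spec (S.residueField y), ⊤), f'.app ⊤ c = r := by
    obtain ⟨c, hc⟩ := hb.2 r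
    exact ⟨(Scheme.ΓSpecIso (S.residueField y)).inv c, hc⟩
  refine ⟨c • pullMap g M e (show Γ(M, U) from s), ?_⟩
  rw [Scheme.Modules.Hom.app_smul, GenBCLib.bc0_pullMap (f.fiber_fac y) P e le s]
  refine Eq.trans ?_ hr
  show f'.app ⊤ c • pullMap g' P le s = r • _
  rw [hc]
  congr 1
  refine Eq.trans ?_ (pullMap_res g' P le_rfl le_rfl le le s).symm
  simp

theorem nontrivial_fiberH_of_triv [IsProper f] {P : X.Modules} (y : S)
    (hb : Function.Bijective (algebraMap (S.residueField y) Γ(f.fiber y, ⊤)))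
    (h : CubeLib.Triv ((Scheme.Modules.pullback (f.fiberι y)).obj P)) : Nontrivial (CohIII.fiberH f P y 0) :=
  Module.nontrivial_of_finrank_eq_succ (R := S.residueField y) (n := 0) (CubeLib.fiberRank_eq_one_of_triv f y hb h)

theorem fiberRank_pos_of_nontrivial [IsProper f] [LocallyOfFinitePresentation f] [Flat f] {F : X.Modules}
    (hF : FlatMod.IsFinLocFree F) {y : S} (h : Nontrivial (CohIII.fiberH f F y 0)) :
    0 < CohIII.fiberRank f F 0 y := by
  obtain ⟨hq, hfp⟩ := isQCoh_and_isFP_of_isFinLocFree F hF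
  haveI := hq
  obtain ⟨V, D, hyV⟩ := GenBCLib.exists_dat_at hfp (TildePerf.isFlatOver_of_isFinLocFree f hF) y
  haveI hfin : Module.Finite (S.residueField y) (CohIII.fiberH f F y 0) := by
    letI := GenBCLib.kAlg S hyV
    obtain ⟨ev, hev, -⟩ := D.exists_evFibre hyV 0
    exact Module.Finite.of_surjective ev hev
  haveI := h
  exact Module.finrank_pos

/-- A module coming from the base is recovered from its direct image. -/
theorem nonempty_iso_pushforward (hu : ∀ U : S.Opens, Function.Bijective (f.app U)) {N : S.Modules}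
    (hN : PicF.IsInvertible N) {P : X.Modules} (e : (Scheme.Modules.pullback f).obj N ≅ P) :
    Nonempty (N ≅ (Scheme.Modules.pushforward f).obj P) := by
  let adj := Scheme.Modules.pullbackPushforwardAdjunction f
  let φ := adj.unit.app N
  haveI : IsIso φ := isIso_of_locally_app φ fun y => by
    obtain ⟨U, s, hyU, hs⟩ := ParaFLib.exists_gen_nhd hN y
    refine ⟨U, hyU, fun O hO => ?_⟩
    have hg := PicTrivLib.gen_pushforward f (AmpleEmb.gen_pullMap f hN hs) fun V _ => hu V
    refine (Function.Bijective.of_comp_iff _ (hs O hO)).1 ?_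
    refine (congrArg Function.Bijective (funext fun r => ?_)).mpr (hg O hO)
    show φ.app O (r • _) = _
    rw [Scheme.Modules.Hom.app_smul]
    congr 1
    refine (DCohLib.app_natural φ hO s).trans ?_
    show _ = ((Scheme.Modules.pullback f).obj N).presheaf.map (homOfLE (f.preimage_mono hO)).op (pullMap f N le_rfl s)
    simp only [pullMap, AddMonoidHom.coe_comp, Function.comp_apply, ParaFLib.res_res]
    rfl
  exact ⟨asIso φ ≪≫ (Scheme.Modules.pushforward f).mapIso e⟩

variable [IsProper f] [LocallyOfFinitePresentation f] [Flat f] [GeometricallyIntegral f]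

theorem bijective_app (U : S.Opens) : Function.Bijective (f.app U) :=
  GenBCLib.bijective_app (AVLib.bijective_fiber f) U

/-- An invertible module comes from the base exactly when it and its inverse have sections on all fibres which
lift. -/
theorem iso_pullback_iff {L M : X.Modules} (hL : PicF.IsInvertible L) (hM : PicF.IsInvertible M)
    (e : CohB1.tensorMod L M ≅ Coh.structureModule X) :
    (∃ N : S.Modules, PicF.IsInvertible N ∧ Nonempty ((Scheme.Modules.pullback f).obj N ≅ L)) ↔
      ∀ y, Nontrivial (CohIII.fiberH f L y 0) ∧ Nontrivial (CohIII.fiberH f M y 0) ∧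
        Epi (CohBC.bc0 f (S.fromSpecResidueField y) (f.fiberToSpecResidueField y) (f.fiberι y) (f.fiber_fac y) L) := by
  constructor
  · rintro ⟨N, hN, ⟨i⟩⟩ y
    obtain ⟨U, hyU, s, hs⟩ := exists_gen_nhd_of_iso_pullback f hN i y
    have hb := AVLib.bijective_fiber f y
    have hT := triv_fibre_of_gen f hL hs hyU
    refine ⟨nontrivial_fiberH_of_triv f y hb hT, nontrivial_fiberH_of_triv f y hb ?_, epi_bc0_of_gen f hL hs hyU hb⟩
    obtain ⟨j⟩ := CubeLib.triv_iff.1 hT
    exact CubeLib.triv_iff.2 ⟨(unitL _).symm ≪≫ AmpleLib.tIso j.symm (Iso.refl _) ≪≫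
      (pullTensor (f.fiberι y) L M).symm ≪≫ (Scheme.Modules.pullback (f.fiberι y)).mapIso e ≪≫ pullO _⟩
  · intro h
    refine AVLib.exists_iso_pullback_of_locally f hL (fun y => ?_)
      fun y => ⟨⊤, trivial, fun V _ => bijective_app f V⟩
    have hy := h y
    exact exists_gen_nhd_of_epi f hL y hy.2.2 (CubeLib.triv_fiber_of_fiberRank_pos f hL hM e y
      (fiberRank_pos_of_nontrivial f (CurveLib.isFinLocFree_of_isInvertible hL) hy.1)
      (fiberRank_pos_of_nontrivial f (CurveLib.isFinLocFree_of_isInvertible hM) hy.2.1))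

theorem isIso_counit {P : X.Modules} (hP : PicF.IsInvertible P)
    (hloc : ∀ y : S, ∃ U : S.Opens, y ∈ U ∧ ∃ s : Γ(P, f ⁻¹ᵁ U), Gen (f ⁻¹ᵁ U) s) :
    IsIso ((Scheme.Modules.pullbackPushforwardAdjunction f).counit.app P) := by
  choose U hyU s hs using hloc
  let N := (Scheme.Modules.pushforward f).obj P
  have hgen : ∀ y, Gen (L := N) (U y) (show Γ(N, U y) from s y) := fun y =>
    PicTrivLib.gen_pushforward f (hs y) fun V _ => bijective_app f V
  have hN : PicF.IsInvertible N := isInvertible_of_gen fun y => ⟨U y, _, hyU y, hgen y⟩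
  let φ := (Scheme.Modules.pullbackPushforwardAdjunction f).counit.app P
  refine isIso_of_locally_app φ fun x => ⟨f ⁻¹ᵁ U (f x), hyU _, fun O hO => ?_⟩
  have hg := AmpleEmb.gen_pullMap f hN (hgen (f x)) O hO
  refine (Function.Bijective.of_comp_iff _ hg).1 ?_
  refine (congrArg Function.Bijective (funext fun r => ?_)).mpr (hs (f x) O hO)
  show φ.app O (r • _) = _
  rw [Scheme.Modules.Hom.app_smul]
  congr 1
  refine (congr($(φ.mapPresheaf.naturality (homOfLE hO).op).hom _)).trans ?_
  exact congrArg (P.presheaf.map (homOfLE hO).op) (AVLib.counit_app_pullMap f P (s (f x)))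

end Groth.Agent.GenSeesawLib
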